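import Mathlib

/-!
# Homogeneous Noether normalisation in a common degree

For a finitely generated algebra over a field, graded in nonnegative degrees with scalars in degree
zero.
-/

set_option autoImplicit false
universe u

open DirectSum

namespace Groth.Agent.SegreDim

/-- A finite injective extension keeps the dimension. -/
theorem ringKrullDim_eq_of_injective_integral {A B : Type u} [CommRing A] [CommRing B] [Algebra A B]
    [Algebra.IsIntegral A B] (h : Function.Injective (algebraMap A B)) :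
    ringKrullDim A = ringKrullDim B := by
  have : FaithfulSMul A B := (faithfulSMul_iff_algebraMap_injective A B).mpr h
  refine le_antisymm (iSup_le fun l => ?_)
    (Order.krullDim_le_of_strictMono (PrimeSpectrum.comap (algebraMap A B))
      fun a b hab => Ideal.IsIntegral.comap_lt_comap (R := A) hab)
  have key : ∀ (n : ℕ) (l : LTSeries (PrimeSpectrum A)), l.length = n →
      ∃ m : LTSeries (PrimeSpectrum B), m.length = n ∧
        PrimeSpectrum.comap (algebraMap A B) m.last = l.last := by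
    intro n
    induction n with
    | zero =>
      intro l hl
      obtain ⟨Q, -, hQ, hQl⟩ := Ideal.exists_ideal_over_prime_of_isIntegral l.last.asIdeal (⊥ : Ideal B)
        (by rw [← RingHom.ker_eq_comap_bot, (RingHom.injective_iff_ker_eq_bot _).mp h]; exact bot_le)
      exact ⟨RelSeries.singleton _ ⟨Q, hQ⟩, rfl, PrimeSpectrum.ext (by simpa using hQl)⟩
    | succ n ih =>
      intro l hl
      obtain ⟨m, hm, hml⟩ := ih l.eraseLast (by simp [hl])
      have hlt : l.eraseLast.last < l.last := l.eraseLast_last_rel_last (by omega)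
      obtain ⟨Q, hQle, hQ, hQl⟩ := Ideal.exists_ideal_over_prime_of_isIntegral l.last.asIdeal
        m.last.asIdeal (by
          rw [show m.last.asIdeal.comap (algebraMap A B) = l.eraseLast.last.asIdeal from
            congrArg PrimeSpectrum.asIdeal hml]
          exact hlt.le)
      refine ⟨m.snoc ⟨Q, hQ⟩ (lt_of_le_of_ne (show m.last ≤ (⟨Q, hQ⟩ : PrimeSpectrum B) from hQle)
        fun e => ?_), by simp [hm], PrimeSpectrum.ext (by simpa using hQl)⟩
      apply hlt.ne
      rw [← hml, e]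
      exact PrimeSpectrum.ext hQl
  obtain ⟨m, hm, -⟩ := key l.length l rfl
  rw [← hm]
  exact le_iSup (fun m : LTSeries (PrimeSpectrum B) => (m.length : WithBot ℕ∞)) m

variable {k : Type u} [Field k] {R : Type u} [CommRing R] [Algebra k R] (𝒜 : ℤ → Submodule k R)
  [GradedAlgebra 𝒜]

/-- Homogeneous generators of positive degree. -/
structure HomGens where
  set : Finset R
  deg : R → ℕ
  deg_pos : ∀ h ∈ set, 0 < deg h
  mem : ∀ h ∈ set, h ∈ 𝒜 (deg h : ℤ)
  adjoin_eq : Algebra.adjoin k (set : Set R) = ⊤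

variable {𝒜}

theorem exists_homGens (hpos : ∀ n : ℤ, n < 0 → 𝒜 n = ⊥) (h0 : 𝒜 0 = Submodule.span k {(1 : R)})
    [Algebra.FiniteType k R] : Nonempty (HomGens 𝒜) := by
  classical
  obtain ⟨s, hs⟩ := (Algebra.FiniteType.out : (⊤ : Subalgebra k R).FG)
  let t : Finset (ℤ × R) := s.biUnion fun x =>
    ((DirectSum.decompose 𝒜 x).support.filter (fun n : ℤ => 0 < n)).image
      fun n => (n, (DirectSum.decompose 𝒜 x n : R))
  have hne : ∀ p ∈ t, p.2 ∈ 𝒜 p.1 ∧ 0 < p.1 ∧ p.2 ≠ 0 := by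
    intro p hp
    simp only [t, Finset.mem_biUnion, Finset.mem_image, Finset.mem_filter, DFinsupp.mem_support_iff] at hp
    obtain ⟨x, -, n, ⟨hn, hn0⟩, rfl⟩ := hp
    exact ⟨SetLike.coe_mem _, hn0, fun h => hn (Subtype.ext h)⟩
  have hdeg : ∀ h ∈ t.image Prod.snd, ∃ n : ℕ, 0 < n ∧ h ∈ 𝒜 (n : ℤ) := by
    intro h hh
    obtain ⟨p, hp, rfl⟩ := Finset.mem_image.mp hh
    exact ⟨p.1.toNat, by have := (hne p hp).2.1; omega,
      by rw [Int.toNat_of_nonneg (hne p hp).2.1.le]; exact (hne p hp).1⟩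
  let deg : R → ℕ := fun h => if hh : h ∈ t.image Prod.snd then (hdeg h hh).choose else 1
  refine ⟨⟨t.image Prod.snd, deg, fun h hh => ?_, fun h hh => ?_, ?_⟩⟩
  · simp only [deg, dif_pos hh]; exact (hdeg h hh).choose_spec.1
  · simp only [deg, dif_pos hh]; exact (hdeg h hh).choose_spec.2
  · rw [eq_top_iff, ← hs, Algebra.adjoin_le_iff]
    intro x hx
    rw [← DirectSum.sum_support_decompose 𝒜 x]
    refine Subalgebra.sum_mem _ fun n hn => ?_
    rcases lt_trichotomy n 0 with h | h | h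
    · have : (DirectSum.decompose 𝒜 x n : R) = 0 := by
        have h1 : (DirectSum.decompose 𝒜 x n : R) ∈ 𝒜 n := SetLike.coe_mem _
        exact (Submodule.mem_bot k).mp ((hpos n h).le h1)
      rw [this]; exact zero_mem _
    · subst h
      have : (DirectSum.decompose 𝒜 x (0 : ℤ) : R) ∈ 𝒜 0 := SetLike.coe_mem _
      obtain ⟨c, hc⟩ := Submodule.mem_span_singleton.mp (h0.le this)
      rw [← hc, ← Algebra.algebraMap_eq_smul_one]
      exact Subalgebra.algebraMap_mem _ c
    · exact Algebra.subset_adjoin (Finset.mem_image.mpr ⟨(n, _),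
        Finset.mem_biUnion.mpr ⟨x, hx, Finset.mem_image.mpr ⟨n, Finset.mem_filter.mpr ⟨hn, h⟩, rfl⟩⟩, rfl⟩)

theorem proj_of_mem {n : ℤ} {x : R} (hx : x ∈ 𝒜 n) : GradedAlgebra.proj 𝒜 n x = x := by
  rw [GradedAlgebra.proj_apply, DirectSum.decompose_of_mem_same 𝒜 hx]

theorem proj_of_ne {n m : ℤ} {x : R} (hx : x ∈ 𝒜 n) (h : n ≠ m) : GradedAlgebra.proj 𝒜 m x = 0 := by
  rw [GradedAlgebra.proj_apply, DirectSum.decompose_of_mem_ne 𝒜 hx h]

theorem proj_mul_left {d : ℤ} {f : R} (hf : f ∈ 𝒜 d) (n : ℤ) (c : R) :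
    GradedAlgebra.proj 𝒜 n (f * c) = f * GradedAlgebra.proj 𝒜 (n - d) c := by
  rw [GradedAlgebra.proj_apply, GradedAlgebra.proj_apply, ← DirectSum.coe_decompose_mul_add_of_left_mem 𝒜 hf,
    add_sub_cancel]

theorem proj_mem (n : ℤ) (c : R) : GradedAlgebra.proj 𝒜 n c ∈ 𝒜 n := by
  rw [GradedAlgebra.proj_apply]; exact SetLike.coe_mem _

namespace HomGens

variable (G : HomGens 𝒜)

/-- The degree of a monomial. -/
def wt (e : {h // h ∈ G.set} → ℕ) : ℕ := ∑ h, e h * G.deg h.1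

/-- A monomial in the generators. -/
def mon (e : {h // h ∈ G.set} → ℕ) : R := ∏ h, h.1 ^ e h

theorem mon_mem (e : {h // h ∈ G.set} → ℕ) : G.mon e ∈ 𝒜 (G.wt e : ℤ) := by
  have h : ((G.wt e : ℕ) : ℤ) = ∑ h : {h // h ∈ G.set}, e h • (G.deg h.1 : ℤ) := by
    rw [wt, Nat.cast_sum]; simp
  rw [h]
  exact SetLike.prod_pow_mem_graded 𝒜 (fun h : {h // h ∈ G.set} => (G.deg h.1 : ℤ)) (fun h => h.1) e
    (fun h _ => G.mem h.1 h.2)

theorem piece_le (n : ℤ) :
    𝒜 n ≤ Submodule.span k (G.mon '' {e | (G.wt e : ℤ) = n}) := by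
  intro a ha
  let φ : MvPolynomial {h // h ∈ G.set} k →ₐ[k] R := MvPolynomial.aeval fun h => h.1
  obtain ⟨P, hP⟩ : ∃ P, φ P = a := by
    have : a ∈ Algebra.adjoin k (Set.range fun h : {h // h ∈ G.set} => h.1) := by
      rw [Subtype.range_coe_subtype]
      simp [G.adjoin_eq]
    rw [Algebra.adjoin_range_eq_range_aeval] at this
    exact this
  rw [← proj_of_mem ha, ← hP, P.as_sum, map_sum, map_sum]
  refine Submodule.sum_mem _ fun e _ => ?_
  rw [MvPolynomial.aeval_monomial, ← Algebra.smul_def, map_smul]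
  refine Submodule.smul_mem _ _ ?_
  have : (e.prod fun i j => i.1 ^ j) = G.mon ⇑e := Finsupp.prod_fintype _ _ fun _ => pow_zero _
  rw [this]
  by_cases hn : (G.wt ⇑e : ℤ) = n
  · rw [← hn, proj_of_mem (G.mon_mem _)]
    exact Submodule.subset_span ⟨_, rfl, rfl⟩
  · rw [proj_of_ne (G.mon_mem _) hn]
    exact zero_mem _

include G in
theorem piece_fg (n : ℤ) : (𝒜 n).FG := by
  classical
  have hfin : {e : {h // h ∈ G.set} → ℕ | (G.wt e : ℤ) = n}.Finite := by
    refine (Set.Finite.pi' fun _ => Set.finite_Iic n.toNat).subset fun e he h => ?_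
    have h1 : e h * G.deg h.1 ≤ G.wt e :=
      Finset.single_le_sum (f := fun h => e h * G.deg h.1) (fun _ _ => Nat.zero_le _) (Finset.mem_univ h)
    have h2 : e h ≤ e h * G.deg h.1 := Nat.le_mul_of_pos_right _ (G.deg_pos h.1 h.2)
    rw [Set.mem_ofPred_eq] at he
    show e h ≤ n.toNat
    omega
  have : Module.Finite k (Submodule.span k (G.mon '' {e | (G.wt e : ℤ) = n})) :=
    Module.Finite.iff_fg.mpr (Submodule.fg_span (hfin.image _))
  exact Module.Finite.iff_fg.mp
    (Module.Finite.of_injective (Submodule.inclusion (G.piece_le n)) (Submodule.inclusion_injective _))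

/-- If powers of the generators lie in an ideal, so do all pieces of large degree. -/
theorem exists_bound (I : Ideal R) (hI : ∀ h ∈ G.set, ∃ N : ℕ, h ^ N ∈ I) :
    ∃ B : ℕ, ∀ n : ℤ, (B : ℤ) ≤ n → ∀ a ∈ 𝒜 n, a ∈ I := by
  classical
  choose N hN using fun h : {h // h ∈ G.set} => hI h.1 h.2
  refine ⟨G.wt N + 1, fun n hn a ha => ?_⟩
  have ha' := G.piece_le n ha
  refine (Submodule.span_le (p := I.restrictScalars k)).mpr ?_ ha'
  rintro _ ⟨e, he, rfl⟩
  rw [Set.mem_ofPred_eq] at he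
  obtain ⟨h, hh⟩ : ∃ h, N h ≤ e h := by
    by_contra hcon
    push Not at hcon
    have : G.wt e ≤ G.wt N :=
      Finset.sum_le_sum fun h _ => Nat.mul_le_mul_right _ (hcon h).le
    omega
  show G.mon e ∈ I
  rw [mon, ← Finset.mul_prod_erase _ _ (Finset.mem_univ h)]
  exact I.mul_mem_right _ (I.pow_mem_of_pow_mem (hN h) hh)

/-- The irrelevant ideal. -/
def irrel : Ideal R := Ideal.span (G.set : Set R)

theorem proj_zero_irrel (hpos : ∀ n : ℤ, n < 0 → 𝒜 n = ⊥) {x : R} (hx : x ∈ G.irrel) :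
    GradedAlgebra.proj 𝒜 0 x = 0 := by
  suffices h : ∀ c, GradedAlgebra.proj 𝒜 0 (x * c) = 0 by simpa using h 1
  induction hx using Submodule.span_induction with
  | zero => intro c; rw [zero_mul, map_zero]
  | add x y _ _ hx hy => intro c; rw [add_mul, map_add, hx, hy, add_zero]
  | smul a x _ hx => intro c; rw [smul_eq_mul, mul_comm a, mul_assoc]; exact hx (a * c)
  | mem x hx =>
    intro c
    rw [proj_mul_left (G.mem x hx)]
    have h := proj_mem (𝒜 := 𝒜) (0 - (G.deg x : ℤ)) c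
    rw [(Submodule.mem_bot k).mp ((hpos _ (by have := G.deg_pos x hx; omega)).le h), mul_zero]

end HomGens


section Avoid

variable (G : HomGens 𝒜)

/-- A homogeneous element of positive degree outside finitely many homogeneous primes. -/
theorem exists_notMem (hpos : ∀ n : ℤ, n < 0 → 𝒜 n = ⊥) :
    ∀ (c : ℕ) (Q : Finset (Ideal R)), Q.card = c →
      (∀ q ∈ Q, q.IsPrime ∧ q.IsHomogeneous 𝒜 ∧ ¬ G.irrel ≤ q) →
      ∃ (d : ℕ) (f : R), 0 < d ∧ f ∈ 𝒜 (d : ℤ) ∧ ∀ q ∈ Q, f ∉ q := by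
  classical
  intro c
  induction c with
  | zero =>
    intro Q hQ _
    exact ⟨1, 0, one_pos, zero_mem _, fun q hq => by simp [Finset.card_eq_zero.mp hQ] at hq⟩
  | succ c ih =>
    intro Q hQ hP
    by_cases hcomp : ∃ q₁ ∈ Q, ∃ q₂ ∈ Q, q₁ ≠ q₂ ∧ q₁ ≤ q₂
    · obtain ⟨q₁, h₁, q₂, h₂, hne, hle⟩ := hcomp
      obtain ⟨d, f, hd, hf, hfQ⟩ := ih (Q.erase q₁) (by rw [Finset.card_erase_of_mem h₁, hQ]; omega)
        fun q hq => hP q (Finset.mem_of_mem_erase hq)
      refine ⟨d, f, hd, hf, fun q hq hfq => ?_⟩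
      by_cases hq₁ : q = q₁
      · exact hfQ q₂ (Finset.mem_erase.mpr ⟨hne.symm, h₂⟩) (hle (hq₁ ▸ hfq))
      · exact hfQ q (Finset.mem_erase.mpr ⟨hq₁, hq⟩) hfq
    push Not at hcomp
    obtain ⟨q₀, hq₀⟩ := Finset.card_pos.mp (by omega : 0 < Q.card)
    obtain ⟨d, f, hd, hf, hfQ⟩ := ih (Q.erase q₀) (by rw [Finset.card_erase_of_mem hq₀, hQ]; omega)
      fun q hq => hP q (Finset.mem_of_mem_erase hq)
    by_cases hf₀ : f ∈ q₀
    swap
    · exact ⟨d, f, hd, hf, fun q hq => if h : q = q₀ then h ▸ hf₀ else hfQ q (Finset.mem_erase.mpr ⟨h, hq⟩)⟩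
    obtain ⟨hq₀p, hq₀h, hq₀m⟩ := hP q₀ hq₀
    obtain ⟨h, hh, hh₀⟩ := Set.not_subset.mp fun h => hq₀m (Ideal.span_le.mpr h)
    have hex : ∀ q : {q // q ∈ Q.erase q₀}, ∃ (e : ℕ) (a : R), a ∈ 𝒜 (e : ℤ) ∧ a ∈ q.1 ∧ a ∉ q₀ := by
      rintro ⟨q, hq⟩
      obtain ⟨a, ha, ha₀⟩ := Set.not_subset.mp (hcomp q (Finset.mem_of_mem_erase hq) q₀ hq₀
        (Finset.ne_of_mem_erase hq))
      have hex : ∃ n, (DirectSum.decompose 𝒜 a n : R) ∉ q₀ := by
        by_contra hall
        push Not at hall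
        apply ha₀
        rw [← DirectSum.sum_support_decompose 𝒜 a]
        exact q₀.sum_mem fun n _ => hall n
      obtain ⟨n, hn⟩ := hex
      have hn0 : ¬ n < 0 := fun hlt => hn (by
        rw [(Submodule.mem_bot k).mp ((hpos n hlt).le (SetLike.coe_mem _))]
        exact q₀.zero_mem)
      exact ⟨n.toNat, _, by rw [Int.toNat_of_nonneg (not_lt.mp hn0)]; exact SetLike.coe_mem _,
        (hP q (Finset.mem_of_mem_erase hq)).2.1 n ha, hn⟩
    choose e a hae haq ha₀ using hex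
    let g := h * ∏ q, a q
    have hg : g ∈ 𝒜 ((G.deg h + ∑ q, e q : ℕ) : ℤ) := by
      rw [Nat.cast_add, Nat.cast_sum]
      exact SetLike.mul_mem_graded (G.mem h hh)
        (SetLike.prod_mem_graded 𝒜 (fun q => (e q : ℤ)) a fun q _ => hae q)
    have hg₀ : g ∉ q₀ := fun hg₀ => by
      rcases hq₀p.mem_or_mem hg₀ with h1 | h1
      · exact hh₀ h1
      · obtain ⟨q, -, hq⟩ := hq₀p.prod_mem_iff.mp h1
        exact ha₀ q hq
    have hgq : ∀ q ∈ Q.erase q₀, g ∈ q := fun q hq =>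
      q.mul_mem_left _ (by rw [← Finset.mul_prod_erase _ _ (Finset.mem_univ (⟨q, hq⟩ : {q // q ∈ Q.erase q₀}))]; exact q.mul_mem_right _ (haq ⟨q, hq⟩))
    have hge : 0 < G.deg h + ∑ q, e q := Nat.add_pos_left (G.deg_pos h hh) _
    refine ⟨(G.deg h + ∑ q, e q) * d, f ^ (G.deg h + ∑ q, e q) + g ^ d, Nat.mul_pos hge hd, ?_, fun q hq hmem => ?_⟩
    · refine add_mem ?_ ?_
      · have := SetLike.pow_mem_graded (G.deg h + ∑ q, e q) hf
        rwa [nsmul_eq_mul, ← Nat.cast_mul] at this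
      · have := SetLike.pow_mem_graded d hg
        rwa [nsmul_eq_mul, ← Nat.cast_mul, mul_comm] at this
    · by_cases hqe : q = q₀
      · subst hqe
        exact hg₀ (hq₀p.mem_of_pow_mem d ((Submodule.add_mem_iff_right _ (Ideal.pow_mem_of_mem _ hf₀ _ hge)).mp hmem))
      · have hq' : q ∈ Q.erase q₀ := Finset.mem_erase.mpr ⟨hqe, hq⟩
        exact hfQ q hq' ((hP q hq).1.mem_of_pow_mem _
          ((Submodule.add_mem_iff_left _ (Ideal.pow_mem_of_mem _ (hgq q hq') _ hd)).mp hmem))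

theorem isHomogeneous_minimalPrimes {I q : Ideal R} (hI : I.IsHomogeneous 𝒜) (hq : q ∈ I.minimalPrimes) :
    q.IsHomogeneous 𝒜 := by
  have h1 : (q.homogeneousCore 𝒜).toIdeal.IsPrime := hq.1.1.homogeneousCore
  have h2 : I ≤ (q.homogeneousCore 𝒜).toIdeal := by
    rw [← hI.toIdeal_homogeneousCore_eq_self]
    exact Ideal.homogeneousCore_mono 𝒜 hq.1.2
  have h3 : q ≤ (q.homogeneousCore 𝒜).toIdeal := hq.2 ⟨h1, h2⟩ (Ideal.toIdeal_homogeneousCore_le 𝒜 q)
  rw [Ideal.IsHomogeneous.iff_eq]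
  exact le_antisymm (Ideal.toIdeal_homogeneousCore_le 𝒜 q) h3

/-- A homogeneous prime contains the irrelevant ideal only if it is that ideal. -/
theorem le_irrel (hpos : ∀ n : ℤ, n < 0 → 𝒜 n = ⊥) (h0 : 𝒜 0 = Submodule.span k {(1 : R)}) {q : Ideal R}
    (hq : q ≠ ⊤) (hh : q.IsHomogeneous 𝒜) : q ≤ G.irrel := by
  intro x hx
  classical
  rw [← DirectSum.sum_support_decompose 𝒜 x]
  refine G.irrel.sum_mem fun n _ => ?_
  rcases lt_trichotomy n 0 with h | h | h
  · rw [(Submodule.mem_bot k).mp ((hpos n h).le (SetLike.coe_mem _))]; exact zero_mem _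
  · subst h
    obtain ⟨c, hc⟩ := Submodule.mem_span_singleton.mp (h0.le (SetLike.coe_mem (DirectSum.decompose 𝒜 x (0 : ℤ))))
    rcases eq_or_ne c 0 with rfl | hc0
    · rw [← hc, zero_smul]; exact zero_mem _
    · refine absurd (Ideal.eq_top_of_isUnit_mem q (hh 0 hx) ?_) hq
      rw [← hc, ← Algebra.algebraMap_eq_smul_one]
      exact (IsUnit.mk0 c hc0).map _
  · have := G.piece_le n (SetLike.coe_mem (DirectSum.decompose 𝒜 x n))
    refine (Submodule.span_le (p := G.irrel.restrictScalars k)).mpr ?_ this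
    rintro _ ⟨e, he, rfl⟩
    rw [Set.mem_ofPred_eq] at he
    obtain ⟨g, hg⟩ : ∃ g, e g ≠ 0 := by
      by_contra hall
      push Not at hall
      have : G.wt e = 0 := Finset.sum_eq_zero fun g _ => by rw [hall g, zero_mul]
      omega
    show G.mon e ∈ G.irrel
    rw [HomGens.mon, ← Finset.mul_prod_erase _ _ (Finset.mem_univ g)]
    exact G.irrel.mul_mem_right _ (Ideal.pow_mem_of_mem _ (Ideal.subset_span g.2) _ (Nat.pos_of_ne_zero hg))

theorem irrel_isPrime (hpos : ∀ n : ℤ, n < 0 → 𝒜 n = ⊥) [Nontrivial R] : G.irrel.IsMaximal := by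
  rw [Ideal.isMaximal_iff]
  refine ⟨fun h1 => ?_, fun J x hIJ hx hxJ => ?_⟩
  · have := G.proj_zero_irrel hpos h1
    rw [proj_of_mem SetLike.GradedOne.one_mem] at this
    exact one_ne_zero this
  · obtain ⟨c, hc⟩ : ∃ c : k, x - algebraMap k R c ∈ G.irrel := by
      have : x ∈ Algebra.adjoin k (G.set : Set R) := G.adjoin_eq ▸ Algebra.mem_top
      clear hx hxJ
      induction this using Algebra.adjoin_induction with
      | mem y hy => exact ⟨0, by simpa [HomGens.irrel] using Ideal.subset_span hy⟩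
      | algebraMap r => exact ⟨r, by simp⟩
      | add y z _ _ hy hz =>
        obtain ⟨a, ha⟩ := hy; obtain ⟨b, hb⟩ := hz
        exact ⟨a + b, by rw [map_add, add_sub_add_comm]; exact add_mem ha hb⟩
      | mul y z _ _ hy hz =>
        obtain ⟨a, ha⟩ := hy; obtain ⟨b, hb⟩ := hz
        refine ⟨a * b, ?_⟩
        have : y * z - algebraMap k R (a * b) = (y - algebraMap k R a) * z + algebraMap k R a * (z - algebraMap k R b) := by
          rw [map_mul]; ring
        rw [this]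
        exact add_mem (Ideal.mul_mem_right _ _ ha) (Ideal.mul_mem_left _ _ hb)
    rcases eq_or_ne c 0 with rfl | hc0
    · rw [map_zero, sub_zero] at hc
      exact absurd hc hx
    · have h1 : algebraMap k R c ∈ J := by simpa using J.sub_mem hxJ (hIJ hc)
      exact (J.eq_top_of_isUnit_mem h1 ((IsUnit.mk0 c hc0).map _)) ▸ Submodule.mem_top

/-- An element outside the minimal primes lowers the dimension. -/
theorem dim_drop {I J : Ideal R} {f : R} (hJ : I ≤ J) (hf : f ∈ J)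
    (h : ∀ q ∈ I.minimalPrimes, f ∉ q) {d : ℕ} (hd : ringKrullDim (R ⧸ I) ≤ (d + 1 : ℕ)) :
    ringKrullDim (R ⧸ J) ≤ d := by
  rw [ringKrullDim_quotient] at hd ⊢
  refine iSup_le fun l => ?_
  let p := l.head.1
  have hpJ : J ≤ p.asIdeal := l.head.2
  obtain ⟨q, hq, hqp⟩ := Ideal.exists_minimalPrimes_le (hJ.trans hpJ)
  let l' : LTSeries (PrimeSpectrum.zeroLocus (R := R) I) :=
    l.map (fun x => ⟨x.1, fun a ha => x.2 (hJ ha)⟩) fun a b hab => hab
  have hlt : (⟨⟨q, hq.1.1⟩, hq.1.2⟩ : PrimeSpectrum.zeroLocus (R := R) I) < l'.head := by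
    show q < p.asIdeal
    exact lt_of_le_of_ne hqp fun e => h q hq (e ▸ hpJ hf)
  have h1 := (Order.LTSeries.length_le_krullDim (l'.cons _ hlt)).trans hd
  rw [RelSeries.cons_length] at h1
  have h2 : l'.length + 1 ≤ d + 1 := by exact_mod_cast h1
  show ((l.length : ℕ) : WithBot ℕ∞) ≤ (d : ℕ)
  exact_mod_cast Nat.le_of_succ_le_succ h2

theorem exists_seq (hpos : ∀ n : ℤ, n < 0 → 𝒜 n = ⊥) (h0 : 𝒜 0 = Submodule.span k {(1 : R)})
    [IsNoetherianRing R] [Nontrivial R] {J : Ideal R} (hJ : J.IsHomogeneous 𝒜) {r : ℕ} (hr : ringKrullDim (R ⧸ J) = r) :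
    ∀ j : ℕ, j ≤ r → ∃ (d : Fin j → ℕ) (f : Fin j → R), (∀ i, 0 < d i ∧ f i ∈ 𝒜 (d i : ℤ)) ∧
      (ringKrullDim (R ⧸ (J ⊔ Ideal.span (Set.range f))) ≤ (r - j : ℕ) ∨
        ∀ h ∈ G.set, ∃ N : ℕ, h ^ N ∈ (J ⊔ Ideal.span (Set.range f))) := by
  intro j
  induction j with
  | zero =>
    intro _
    refine ⟨Fin.elim0, Fin.elim0, fun i => i.elim0, Or.inl ?_⟩
    rw [Set.range_eq_empty, Ideal.span_empty, sup_bot_eq, hr]
    simp
  | succ j ih =>
    intro hj
    obtain ⟨d, f, hdf, hor⟩ := ih (by omega)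
    set I := (J ⊔ Ideal.span (Set.range f)) with hI
    have hIh : I.IsHomogeneous 𝒜 := hJ.sup (Ideal.homogeneous_span 𝒜 _ (by
      rintro _ ⟨i, rfl⟩; exact ⟨_, (hdf i).2⟩))
    by_cases hall : ∀ h ∈ G.set, ∃ N : ℕ, h ^ N ∈ I
    · refine ⟨Fin.cons 1 d, Fin.cons 0 f, fun i => Fin.cases ⟨one_pos, zero_mem _⟩ hdf i, Or.inr fun h hh => ?_⟩
      obtain ⟨N, hN⟩ := hall h hh
      exact ⟨N, sup_le_sup_left (Ideal.span_mono (by rw [Fin.range_cons]; exact Set.subset_insert _ _)) J hN⟩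
    have hdim := hor.resolve_right hall
    have hmin : ∀ q ∈ I.minimalPrimes, q.IsPrime ∧ q.IsHomogeneous 𝒜 ∧ ¬ G.irrel ≤ q := by
      intro q hq
      refine ⟨hq.1.1, isHomogeneous_minimalPrimes hIh hq, fun hle => hall fun h hh => ?_⟩
      -- then every minimal prime is the irrelevant ideal
      have hrad : h ∈ I.radical := by
        rw [← Ideal.sInf_minimalPrimes, Ideal.mem_sInf]
        intro q' hq'
        have hq'le : q' ≤ G.irrel := le_irrel G hpos h0 hq'.1.1.ne_top (isHomogeneous_minimalPrimes hIh hq')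
        exact hq.2 hq'.1 (hq'le.trans hle) (hle (Ideal.subset_span hh))
      exact Ideal.mem_radical_iff.mp hrad
    obtain ⟨e, g, he, hg, hgq⟩ := exists_notMem G hpos _ (Ideal.finite_minimalPrimes_of_isNoetherianRing R I).toFinset rfl
      fun q hq => hmin q ((Set.Finite.mem_toFinset _).mp hq)
    refine ⟨Fin.cons e d, Fin.cons g f, fun i => Fin.cases ⟨he, hg⟩ hdf i, Or.inl ?_⟩
    refine dim_drop (I := I) (f := g)
      (sup_le_sup_left (Ideal.span_mono (by rw [Fin.range_cons]; exact Set.subset_insert _ _)) J)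
      (Submodule.mem_sup_right (Ideal.subset_span (Set.mem_range.mpr ⟨0, Fin.cons_zero _ _⟩))) (fun q hq => hgq q ((Set.Finite.mem_toFinset _).mpr hq)) ?_
    rwa [show r - (j + 1) + 1 = r - j by omega]

theorem exists_powers (hpos : ∀ n : ℤ, n < 0 → 𝒜 n = ⊥) (h0 : 𝒜 0 = Submodule.span k {(1 : R)})
    [IsNoetherianRing R] [Nontrivial R] {J : Ideal R} (hJ : J.IsHomogeneous 𝒜) {r : ℕ} (hr : ringKrullDim (R ⧸ J) = r) :
    ∃ (d : Fin r → ℕ) (f : Fin r → R), (∀ i, 0 < d i ∧ f i ∈ 𝒜 (d i : ℤ)) ∧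
      ∀ h ∈ G.set, ∃ N : ℕ, h ^ N ∈ (J ⊔ Ideal.span (Set.range f)) := by
  obtain ⟨d, f, hdf, hor⟩ := exists_seq G hpos h0 hJ hr r le_rfl
  refine ⟨d, f, hdf, ?_⟩
  rcases hor with hdim | h
  swap
  · exact h
  intro h hh
  set I := (J ⊔ Ideal.span (Set.range f))
  have hIh : I.IsHomogeneous 𝒜 := hJ.sup (Ideal.homogeneous_span 𝒜 _ (by rintro _ ⟨i, rfl⟩; exact ⟨_, (hdf i).2⟩))
  have hrad : h ∈ I.radical := by
    rw [← Ideal.sInf_minimalPrimes, Ideal.mem_sInf]
    intro q hq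
    have : Nontrivial (R ⧸ I) := Ideal.Quotient.nontrivial_iff.mpr
      (ne_top_of_le_ne_top hq.1.1.ne_top hq.1.2)
    have hK : Ring.KrullDimLE 0 (R ⧸ I) := Ring.krullDimLE_iff.mpr (by simpa using hdim)
    have hmax : q.IsMaximal := by
      have := Ideal.map_isPrime_of_surjective (f := Ideal.Quotient.mk I) Ideal.Quotient.mk_surjective
        (by rw [Ideal.mk_ker]; exact hq.1.2) (H := hq.1.1)
      have h2 : (q.map (Ideal.Quotient.mk I)).IsMaximal := Ideal.IsPrime.isMaximal' this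
      have h3 := Ideal.comap_isMaximal_of_surjective (Ideal.Quotient.mk I) Ideal.Quotient.mk_surjective (K := q.map (Ideal.Quotient.mk I))
      rwa [Ideal.comap_map_of_surjective' _ Ideal.Quotient.mk_surjective, Ideal.mk_ker, sup_eq_left.mpr hq.1.2] at h3
    have hle := le_irrel G hpos h0 hq.1.1.ne_top (isHomogeneous_minimalPrimes hIh hq)
    rw [hmax.eq_of_le (irrel_isPrime G hpos).ne_top hle]
    exact Ideal.subset_span hh
  exact Ideal.mem_radical_iff.mp hrad

end Avoid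

/-- A map from a polynomial ring in `r` variables making a ring of dimension `r` integral is injective. -/
theorem injective_of_dim {Q : Type u} [CommRing Q] [Algebra k Q] {r : ℕ} (hr : ringKrullDim Q = r)
    (φ : MvPolynomial (Fin r) k →ₐ[k] Q) (hint : φ.toRingHom.IsIntegral) : Function.Injective φ := by
  by_contra hni
  let K := RingHom.ker φ.toRingHom
  have hK : K ≠ ⊥ := fun h => hni ((RingHom.injective_iff_ker_eq_bot _).mpr h)
  letI := (Ideal.Quotient.lift K φ.toRingHom fun a ha => ha).toAlgebra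
  have hint' : ((algebraMap (MvPolynomial (Fin r) k ⧸ K) Q).comp (Ideal.Quotient.mk K)).IsIntegral := hint
  have : Algebra.IsIntegral (MvPolynomial (Fin r) k ⧸ K) Q := ⟨RingHom.IsIntegral.tower_top _ _ hint'⟩
  have hinj : Function.Injective (algebraMap (MvPolynomial (Fin r) k ⧸ K) Q) :=
    RingHom.lift_injective_of_ker_le_ideal _ (fun a ha => ha) le_rfl
  have h1 := ringKrullDim_eq_of_injective_integral hinj
  rw [hr] at h1
  obtain ⟨p, hpK, hp0⟩ := Submodule.exists_mem_ne_zero_of_ne_bot hK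
  have hpP : ringKrullDim (MvPolynomial (Fin r) k) ≤ (r : ℕ) := by
    rw [MvPolynomial.ringKrullDim_of_isNoetherianRing, ringKrullDim_eq_zero_of_field, zero_add, Nat.card_fin]
  rcases r with _ | r
  · have : IsField (MvPolynomial (Fin 0) k) :=
      MulEquiv.isField (Field.toIsField k) (MvPolynomial.isEmptyRingEquiv k (Fin 0)).toMulEquiv
    letI := this.toField
    have hK1 := (Ideal.eq_bot_or_top K).resolve_left hK
    have : Subsingleton Q := subsingleton_of_zero_eq_one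
      (((map_one φ).symm.trans (hK1.ge Submodule.mem_top : (1 : MvPolynomial (Fin 0) k) ∈ K)).symm)
    rw [ringKrullDim_eq_bot_of_subsingleton] at hr
    exact absurd hr.symm (by simp)
  · have h2 : ringKrullDim (MvPolynomial (Fin (r + 1)) k ⧸ K) ≤ r := by
      refine dim_drop (I := ⊥) (f := p) bot_le hpK (fun q hq => ?_) ?_
      · rw [show (⊥ : Ideal (MvPolynomial (Fin (r + 1)) k)).minimalPrimes = minimalPrimes _ from rfl, IsDomain.minimalPrimes_eq_singleton_bot] at hq
        rw [Set.mem_singleton_iff.mp hq]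
        exact hp0
      · rw [ringKrullDim_eq_of_ringEquiv (RingEquiv.quotientBot _)]
        exact hpP
    rw [h1] at h2
    exact absurd h2 (by exact_mod_cast Nat.not_succ_le_self r)

/-- Homogeneous Noether normalisation modulo a homogeneous ideal, in a common degree. -/
theorem exists_system (hpos : ∀ n : ℤ, n < 0 → 𝒜 n = ⊥) (h0 : 𝒜 0 = Submodule.span k {(1 : R)})
    [Algebra.FiniteType k R] {J : Ideal R} (hJ : J.IsHomogeneous 𝒜) {r : ℕ}
    (hr : ringKrullDim (R ⧸ J) = r) :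
    ∃ D₀ : ℕ, 0 < D₀ ∧ ∀ D : ℕ, 0 < D → D₀ ∣ D → ∃ f : Fin r → R, (∀ i, f i ∈ 𝒜 (D : ℤ)) ∧
      (∀ F : MvPolynomial (Fin r) k, MvPolynomial.aeval f F ∈ J → F = 0) ∧
      ((Ideal.Quotient.mkₐ k J).comp (MvPolynomial.aeval f)).toRingHom.IsIntegral ∧
      ∃ B : ℕ, ∀ n : ℤ, (B : ℤ) ≤ n → ∀ a ∈ 𝒜 n, a ∈ J ⊔ Ideal.span (Set.range f) := by
  classical
  have : IsNoetherianRing R := Algebra.FiniteType.isNoetherianRing k R
  have : Nontrivial R := by
    rcases subsingleton_or_nontrivial R with h | h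
    · have : Subsingleton (R ⧸ J) := (Ideal.Quotient.mk_surjective).subsingleton
      rw [ringKrullDim_eq_bot_of_subsingleton] at hr
      exact absurd hr.symm (by simp)
    · exact h
  obtain ⟨G⟩ := exists_homGens hpos h0
  obtain ⟨d, f, hdf, hpow⟩ := exists_powers G hpos h0 hJ hr
  refine ⟨∏ i, d i, Finset.prod_pos fun i _ => (hdf i).1, fun D hD hdvd => ?_⟩
  choose e he using fun i => (Finset.dvd_prod_of_mem d (Finset.mem_univ i)).trans hdvd
  have he0 : ∀ i, e i ≠ 0 := fun i h => by rw [he i, h, mul_zero] at hD; exact lt_irrefl 0 hD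
  let F : Fin r → R := fun i => f i ^ e i
  have hF : ∀ i, F i ∈ 𝒜 (D : ℤ) := fun i => by
    have := SetLike.pow_mem_graded (e i) (hdf i).2
    rwa [nsmul_eq_mul, ← Nat.cast_mul, mul_comm, ← he i] at this
  have hpow' : ∀ h ∈ G.set, ∃ N : ℕ, h ^ N ∈ J ⊔ Ideal.span (Set.range F) := by
    intro h hh
    obtain ⟨N, hN⟩ := hpow h hh
    have hle : J ⊔ Ideal.span (Set.range f) ≤ (J ⊔ Ideal.span (Set.range F)).radical :=
      sup_le (le_sup_left.trans Ideal.le_radical) (Ideal.span_le.mpr (by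
        rintro _ ⟨i, rfl⟩; exact ⟨e i, Ideal.mem_sup_right (Ideal.subset_span ⟨i, rfl⟩)⟩))
    obtain ⟨M, hM⟩ := hle hN
    exact ⟨N * M, by rw [pow_mul]; exact hM⟩
  obtain ⟨B, hB⟩ := G.exists_bound _ hpow'
  let φ : MvPolynomial (Fin r) k →ₐ[k] R := MvPolynomial.aeval F
  let π := Ideal.Quotient.mkₐ k J
  have hint : (π.comp φ).toRingHom.IsIntegral := by
    letI := (π.comp φ).toRingHom.toAlgebra
    have : IsScalarTower k (MvPolynomial (Fin r) k) (R ⧸ J) :=
      IsScalarTower.of_algebraMap_eq fun c => ((π.comp φ).commutes c).symm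
    choose s hs using fun n : Fin B => G.piece_fg (n.1 : ℤ)
    let W : Finset (R ⧸ J) := (Finset.univ.biUnion s).image π
    let M : Submodule (MvPolynomial (Fin r) k) (R ⧸ J) := Submodule.span _ (W : Set (R ⧸ J))
    have hM : ∀ n : ℕ, ∀ a ∈ 𝒜 (n : ℤ), π a ∈ M := by
      intro n
      induction n using Nat.strong_induction_on with
      | _ n ih =>
        intro a ha
        rcases lt_or_ge n B with hn | hn
        · have : a ∈ Submodule.span k (s ⟨n, hn⟩ : Set R) := by rw [hs]; exact ha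
          refine (Submodule.span_le (p := (M.restrictScalars k).comap π.toLinearMap)).mpr (fun w hw => ?_) this
          exact Submodule.subset_span (Finset.mem_image_of_mem _ (Finset.mem_biUnion.mpr ⟨_, Finset.mem_univ _, hw⟩))
        · obtain ⟨u, hu, v, hv, huv⟩ := Submodule.mem_sup.mp (hB n (by exact_mod_cast hn) a ha)
          obtain ⟨c, hc⟩ := Ideal.mem_span_range_iff_exists_fun.mp hv
          have hu' : GradedAlgebra.proj 𝒜 (n : ℤ) u ∈ J := by
            rw [GradedAlgebra.proj_apply]; exact hJ _ hu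
          rw [← proj_of_mem ha, ← huv, map_add, map_add,
            show π (GradedAlgebra.proj 𝒜 (n : ℤ) u) = 0 from Ideal.Quotient.eq_zero_iff_mem.mpr hu',
            zero_add, ← hc, map_sum, map_sum]
          refine M.sum_mem fun i _ => ?_
          rw [mul_comm, proj_mul_left (hF i), map_mul]
          have : π (F i) * π (GradedAlgebra.proj 𝒜 ((n : ℤ) - D) (c i)) =
              (MvPolynomial.X i : MvPolynomial (Fin r) k) • π (GradedAlgebra.proj 𝒜 ((n : ℤ) - D) (c i)) := by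
            rw [Algebra.smul_def]
            congr 1
            exact congrArg π (MvPolynomial.aeval_X F i).symm
          rw [this]
          refine M.smul_mem _ ?_
          rcases le_or_gt D n with h | h
          · refine ih (n - D) (by omega) _ ?_
            rw [Nat.cast_sub h]
            exact proj_mem _ _
          · rw [(Submodule.mem_bot k).mp ((hpos _ (by omega)).le (proj_mem ((n : ℤ) - D) (c i))), map_zero]
            exact zero_mem _
    have htop : M = ⊤ := by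
      refine eq_top_iff.mpr fun b _ => ?_
      obtain ⟨a, rfl⟩ := Ideal.Quotient.mkₐ_surjective k J b
      rw [← DirectSum.sum_support_decompose 𝒜 a, map_sum]
      refine M.sum_mem fun n _ => ?_
      rcases lt_or_ge n 0 with hn | hn
      · rw [(Submodule.mem_bot k).mp ((hpos n hn).le (SetLike.coe_mem _)), map_zero]; exact zero_mem _
      · exact hM n.toNat _ (by rw [Int.toNat_of_nonneg hn]; exact SetLike.coe_mem _)
    have : Module.Finite (MvPolynomial (Fin r) k) (R ⧸ J) := ⟨htop ▸ Submodule.fg_span W.finite_toSet⟩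
    exact fun x => Algebra.IsIntegral.isIntegral (R := MvPolynomial (Fin r) k) x
  refine ⟨F, hF, fun P hP => ?_, hint, B, hB⟩
  exact injective_of_dim hr (π.comp φ) hint ((Ideal.Quotient.eq_zero_iff_mem.mpr hP).trans (map_zero (π.comp φ)).symm)

/-- Homogeneous Noether normalisation in any sufficiently divisible common degree. -/
theorem exists_common_degree (hpos : ∀ n : ℤ, n < 0 → 𝒜 n = ⊥) (h0 : 𝒜 0 = Submodule.span k {(1 : R)})
    [Algebra.FiniteType k R] {r : ℕ} (hr : ringKrullDim R = r) :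
    ∃ D₀ : ℕ, 0 < D₀ ∧ ∀ D : ℕ, 0 < D → D₀ ∣ D → ∃ f : Fin r → R, (∀ i, f i ∈ 𝒜 (D : ℤ)) ∧
      AlgebraicIndependent k f ∧
      ∃ B : ℕ, ∀ n : ℤ, (B : ℤ) ≤ n → ∀ a ∈ 𝒜 n, a ∈ Ideal.span (Set.range f) := by
  obtain ⟨D₀, hD₀, h⟩ := exists_system hpos h0 (Ideal.IsHomogeneous.bot 𝒜)
    ((ringKrullDim_eq_of_ringEquiv (RingEquiv.quotientBot R)).trans hr)
  refine ⟨D₀, hD₀, fun D hD hdvd => ?_⟩
  obtain ⟨f, hf, hinj, -, B, hB⟩ := h D hD hdvd
  refine ⟨f, hf, ?_, B, fun n hn a ha => ?_⟩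
  · rw [algebraicIndependent_iff_injective_aeval, injective_iff_map_eq_zero]
    exact fun P hP => hinj P (Ideal.mem_bot.mpr hP)
  · have := hB n hn a ha
    rwa [bot_sup_eq] at this

end Groth.Agent.SegreDim
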