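import Groth.Prelude.Def_CAlg
import Mathlib

/-!
# Depth is at most the dimension at an associated prime
-/

set_option autoImplicit false
universe u

open IsLocalRing
open scoped Pointwise

namespace Groth.Agent.SegreDim

variable {R : Type u} [CommRing R] [IsLocalRing R] [IsNoetherianRing R]

/-- A regular element pushes an associated prime upwards. -/
theorem exists_associated_quotient {M : Type u} [AddCommGroup M] [Module R M] [Module.Finite R M]
    {x : R} (hx : IsSMulRegular M x) (hxm : x ∈ maximalIdeal R) {p : Ideal R} (hp : p ∈ associatedPrimes R M) :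
    x ∉ p ∧ ∃ q ∈ associatedPrimes R (QuotSMulTop x M), p ≤ q ∧ x ∈ q := by
  obtain ⟨hpp, y₀, hy₀⟩ := (isAssociatedPrime_iff_exists_injective_linearMap p M).mp hp
  let N : Submodule R M := Submodule.torsionBySet R M (p : Set R)
  have hNne : N ≠ ⊥ := by
    intro h
    have : y₀ (Submodule.Quotient.mk 1) ∈ N := by
      refine (Submodule.mem_torsionBySet_iff _ _).mpr fun a => ?_
      rw [← map_smul, ← Submodule.Quotient.mk_smul, (Submodule.Quotient.mk_eq_zero p).mpr
        (by simp : (a : R) • (1 : R) ∈ p), map_zero]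
    rw [h, Submodule.mem_bot] at this
    have := (Submodule.Quotient.mk_eq_zero p).mp (hy₀ (this.trans (map_zero y₀).symm))
    exact hpp.ne_top ((Ideal.eq_top_iff_one p).mpr this)
  have hxp : x ∉ p := fun hxp => by
    obtain ⟨y, hy, hy0⟩ := Submodule.exists_mem_ne_zero_of_ne_bot hNne
    exact hy0 (hx.right_eq_zero_of_smul ((Submodule.mem_torsionBySet_iff _ _).mp hy ⟨x, hxp⟩))
  obtain ⟨y, hy, hyx⟩ : ∃ y ∈ N, y ∉ x • (⊤ : Submodule R M) := by
    by_contra hall
    push Not at hall
    have hle : N ≤ Ideal.span {x} • N := by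
      intro y hy
      obtain ⟨z, -, hz⟩ := hall y hy
      have hz' : x • z = y := hz
      rw [← hz']
      refine Submodule.smul_mem_smul (Ideal.mem_span_singleton_self x)
        ((Submodule.mem_torsionBySet_iff _ _).mpr fun a => hx.right_eq_zero_of_smul ?_)
      rw [smul_comm, hz']
      exact (Submodule.mem_torsionBySet_iff _ _).mp hy a
    exact hNne (Submodule.eq_bot_of_le_smul_of_le_jacobson_bot _ N (IsNoetherian.noetherian N) hle
      (by rw [IsLocalRing.jacobson_eq_maximalIdeal _ bot_ne_top, Ideal.span_le, Set.singleton_subset_iff]; exact hxm))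
  refine ⟨hxp, ?_⟩
  let ybar : QuotSMulTop x M := Submodule.Quotient.mk y
  obtain ⟨q, hq, hle⟩ := exists_le_isAssociatedPrime_of_isNoetherianRing R ybar
    (fun h => hyx ((Submodule.Quotient.mk_eq_zero _).mp h))
  refine ⟨q, hq, fun a ha => hle ?_, hle ?_⟩
  · rw [Submodule.mem_colon_singleton, Submodule.mem_bot]
    show a • (Submodule.Quotient.mk y : QuotSMulTop x M) = 0
    rw [← Submodule.Quotient.mk_smul, (Submodule.mem_torsionBySet_iff _ _).mp hy ⟨a, ha⟩, Submodule.Quotient.mk_zero]
  · rw [Submodule.mem_colon_singleton, Submodule.mem_bot]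
    exact (Submodule.Quotient.mk_eq_zero _).mpr (Submodule.smul_mem_pointwise_smul _ _ _ Submodule.mem_top)

theorem length_le_dim : ∀ (rs : List R) (M : Type u) [AddCommGroup M] [Module R M] [Module.Finite R M],
    RingTheory.Sequence.IsWeaklyRegular M rs → (∀ r ∈ rs, r ∈ maximalIdeal R) →
      ∀ p ∈ associatedPrimes R M, (rs.length : WithBot ℕ∞) ≤ ringKrullDim (R ⧸ p)
  | [], M, _, _, _, _, _, p, hp => by
    have := Ideal.Quotient.nontrivial_iff.mpr hp.1.ne_top
    simpa using ringKrullDim_nonneg_of_nontrivial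
  | x :: rs, M, _, _, _, hreg, hmem, p, hp => by
    rw [RingTheory.Sequence.isWeaklyRegular_cons_iff] at hreg
    obtain ⟨hxp, q, hq, hpq, hxq⟩ :=
      exists_associated_quotient hreg.1 (hmem x (List.mem_cons_self ..)) hp
    have h := length_le_dim rs (QuotSMulTop x M) hreg.2 (fun r hr => hmem r (List.mem_cons_of_mem _ hr)) q hq
    have := hp.1
    have hne : Ideal.Quotient.mk p x ∈ nonZeroDivisors (R ⧸ p) :=
      mem_nonZeroDivisors_of_ne_zero fun h => hxp (Ideal.Quotient.eq_zero_iff_mem.mp h)
    have h1 := ringKrullDim_quotient_succ_le_of_nonZeroDivisor hne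
    have h2 : ringKrullDim (R ⧸ q) ≤ ringKrullDim ((R ⧸ p) ⧸ Ideal.span {Ideal.Quotient.mk p x}) := by
      refine ringKrullDim_le_of_surjective (Ideal.Quotient.lift (Ideal.span {Ideal.Quotient.mk p x})
        (Ideal.Quotient.factor hpq) ?_) ?_
      · intro a ha
        obtain ⟨b, rfl⟩ := Ideal.mem_span_singleton'.mp ha
        rw [map_mul, Ideal.Quotient.factor_mk, Ideal.Quotient.eq_zero_iff_mem.mpr hxq, mul_zero]
      · exact Ideal.Quotient.lift_surjective_of_surjective _ _ (Ideal.Quotient.factor_surjective hpq)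
    calc (((x :: rs).length : ℕ) : WithBot ℕ∞) = (rs.length : WithBot ℕ∞) + 1 := by simp
      _ ≤ ringKrullDim ((R ⧸ p) ⧸ Ideal.span {Ideal.Quotient.mk p x}) + 1 := by
        gcongr; exact h.trans h2
      _ ≤ _ := h1

theorem depth_le_dim {M : Type u} [AddCommGroup M] [Module R M] [Module.Finite R M] (p : Ideal R)
    (hp : p ∈ associatedPrimes R M) :
    ((LocCoh.depth R M : ℕ∞) : WithBot ℕ∞) ≤ ringKrullDim (R ⧸ p) := by
  have hpp := hp.1
  have : Nontrivial M := by
    rcases subsingleton_or_nontrivial M with hM | hM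
    · rw [associatedPrimes.eq_empty_of_subsingleton] at hp
      exact absurd hp (Set.notMem_empty p)
    · exact hM
  rw [LocCoh.depth, LocCoh.idealDepth,
    if_neg (Submodule.top_ne_ideal_smul_of_le_jacobson_annihilator (IsLocalRing.maximalIdeal_le_jacobson _)).symm]
  obtain ⟨d, hd⟩ := WithBot.ne_bot_iff_exists.mp (show ringKrullDim (R ⧸ p) ≠ ⊥ from fun h => by
    have := Ideal.Quotient.nontrivial_iff.mpr hpp.ne_top
    have h0 := ringKrullDim_nonneg_of_nontrivial (R := R ⧸ p)
    rw [h] at h0
    exact absurd h0 (by simp))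
  rw [← hd, WithBot.coe_le_coe]
  refine iSup_le fun rs => iSup_le fun h => ?_
  have := length_le_dim rs M h.1 h.2 p hp
  rw [← hd] at this
  exact_mod_cast this

end Groth.Agent.SegreDim
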