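import Groth.Agent.SegreDim.Cone

/-!
# The dimension of a Segre product
-/

set_option autoImplicit false
universe u

open MvPolynomial TensorProduct

namespace Groth.Agent.SegreDim

theorem ringKrullDim_segreProduct (k : Type u) [Field k] (R : Type u) [CommRing R] [Algebra k R]
    (𝒜 : ℤ → Submodule k R) [GradedAlgebra 𝒜] (hposR : ∀ n : ℤ, n < 0 → 𝒜 n = ⊥)
    (h0R : 𝒜 0 = Submodule.span k {(1 : R)}) [Algebra.FiniteType k R] (S : Type u) [CommRing S]
    [Algebra k S] (ℬ : ℤ → Submodule k S) [GradedAlgebra ℬ] (hposS : ∀ n : ℤ, n < 0 → ℬ n = ⊥)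
    (h0S : ℬ 0 = Submodule.span k {(1 : S)}) [Algebra.FiniteType k S] (T : Type u) [CommRing T]
    [Algebra k T] (𝒯 : ℤ → Submodule k T) [GradedAlgebra 𝒯] (ψ : T →ₐ[k] TensorProduct k R S)
    (hψ : Function.Injective ψ)
    (hdegT : ∀ n : ℤ, (𝒯 n).map ψ.toLinearMap =
      Submodule.span k {x : TensorProduct k R S | ∃ a ∈ 𝒜 n, ∃ b ∈ ℬ n, x = a ⊗ₜ[k] b})
    (r s : ℕ) (hr : ringKrullDim R = (r + 1 : ℕ)) (hs : ringKrullDim S = (s + 1 : ℕ)) :
    ringKrullDim T = ((r + s + 1 : ℕ) : WithBot ℕ∞) := by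
  classical
  obtain ⟨D₁, hD₁, hR⟩ := exists_common_degree hposR h0R hr
  obtain ⟨D₂, hD₂, hS⟩ := exists_common_degree hposS h0S hs
  let D := D₁ * D₂
  obtain ⟨f, hf, hfi, Bf, hBf⟩ := hR D (Nat.mul_pos hD₁ hD₂) (dvd_mul_right _ _)
  obtain ⟨g, hg, hgi, Bg, hBg⟩ := hS D (Nat.mul_pos hD₁ hD₂) (dvd_mul_left _ _)
  let P := MvPolynomial (Fin (r + 1) ⊕ Fin (s + 1)) k
  let Q := MvPolynomial (Fin (r + 1) × Fin (s + 1)) k
  let μ : P →ₐ[k] TensorProduct k R S :=
    aeval (Sum.elim (fun i => f i ⊗ₜ[k] (1 : S)) fun j => (1 : R) ⊗ₜ[k] g j)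
  have hμl : ∀ i, μ (X (Sum.inl i)) = f i ⊗ₜ[k] (1 : S) := fun i => aeval_X _ _
  have hμr : ∀ j, μ (X (Sum.inr j)) = (1 : R) ⊗ₜ[k] g j := fun j => aeval_X _ _
  have hμ : Function.Injective μ := by
    have hfi' := algebraicIndependent_iff_injective_aeval.mp hfi
    have hgi' := algebraicIndependent_iff_injective_aeval.mp hgi
    let e := (MvPolynomial.tensorEquivSum k (Fin (r + 1)) (Fin (s + 1)) k)
    let m := Algebra.TensorProduct.map (MvPolynomial.aeval f : MvPolynomial (Fin (r + 1)) k →ₐ[k] R)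
      (MvPolynomial.aeval g : MvPolynomial (Fin (s + 1)) k →ₐ[k] S)
    have hm : Function.Injective m :=
      TensorProduct.map_injective_of_flat_flat (R := k)
        (MvPolynomial.aeval f : MvPolynomial (Fin (r + 1)) k →ₐ[k] R).toLinearMap
        (MvPolynomial.aeval g : MvPolynomial (Fin (s + 1)) k →ₐ[k] S).toLinearMap hfi' hgi'
    have : μ = m.comp ((e.symm.restrictScalars k).toAlgHom) := by
      refine algHom_ext fun v => ?_
      rcases v with i | j
      · show μ (X (Sum.inl i)) = m (e.symm (X (Sum.inl i)))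
        rw [show e.symm (X (Sum.inl i)) = X i ⊗ₜ[k] 1 from
          e.symm_apply_eq.mpr (tensorEquivSum_X_tmul_one (R := k) (S := k) i).symm]
        rw [hμl]; simp [m]
      · show μ (X (Sum.inr j)) = m (e.symm (X (Sum.inr j)))
        rw [show e.symm (X (Sum.inr j)) = 1 ⊗ₜ[k] X j from
          e.symm_apply_eq.mpr (tensorEquivSum_one_tmul_X (R := k) (S := k) j).symm]
        rw [hμr]; simp [m]
    rw [this, AlgHom.coe_comp]
    exact hm.comp (e.symm.restrictScalars k).injective
  -- the polynomial Segre ring maps into `T`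
  have hmemT : ∀ (n : ℤ) (a : R) (b : S), a ∈ 𝒜 n → b ∈ ℬ n → ∃ t ∈ 𝒯 n, ψ t = a ⊗ₜ[k] b := by
    intro n a b ha hb
    have : a ⊗ₜ[k] b ∈ (𝒯 n).map ψ.toLinearMap := by
      rw [hdegT]; exact Submodule.subset_span ⟨a, ha, b, hb, rfl⟩
    exact Submodule.mem_map.mp this
  choose z hzmem hz using fun p : Fin (r + 1) × Fin (s + 1) => hmemT D (f p.1) (g p.2) (hf p.1) (hg p.2)
  let τ : Q →ₐ[k] T := aeval z
  have hcomp : ψ.comp τ = μ.comp (segre k (r + 1) (s + 1)) := by
    refine algHom_ext fun p => ?_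
    show ψ (τ (X p)) = μ (segre k (r + 1) (s + 1) (X p))
    rw [show τ (X p) = z p from aeval_X z p, hz, show segre k (r + 1) (s + 1) (X p) =
      X (Sum.inl p.1) * X (Sum.inr p.2) from aeval_X _ _, map_mul]
    rw [hμl, hμr, Algebra.TensorProduct.tmul_mul_tmul, mul_one, one_mul]
  have hker : RingHom.ker τ.toRingHom = RingHom.ker (segre k (r + 1) (s + 1)).toRingHom := by
    ext q
    rw [RingHom.mem_ker, RingHom.mem_ker]
    constructor
    · intro h
      refine hμ ?_
      rw [map_zero]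
      exact ((DFunLike.congr_fun hcomp q).symm.trans (congrArg ψ h)).trans (map_zero ψ)
    · intro h
      refine hψ ?_
      rw [map_zero]
      exact ((DFunLike.congr_fun hcomp q).trans (congrArg μ h)).trans (map_zero μ)
  have hdimτ : ringKrullDim τ.range = ((r + s + 1 : ℕ) : WithBot ℕ∞) := by
    rw [← ringKrullDim_segre k r s]
    exact ringKrullDim_eq_of_ringEquiv ((RingHom.quotientKerEquivRange τ.toRingHom).symm.trans
      ((Ideal.quotEquivOfEq hker).trans (RingHom.quotientKerEquivRange (segre k (r + 1) (s + 1)).toRingHom)))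
  -- finiteness
  obtain ⟨G⟩ := exists_homGens hposR h0R
  obtain ⟨H⟩ := exists_homGens hposS h0S
  let B := max Bf Bg
  choose u hu using fun n : Fin B => G.piece_fg (n.1 : ℤ)
  choose v hv using fun n : Fin B => H.piece_fg (n.1 : ℤ)
  have huM : ∀ n : Fin B, ∀ x : {x // x ∈ u n}, x.1 ∈ 𝒜 (n.1 : ℤ) := fun n x => by
    rw [← hu n]; exact Submodule.subset_span x.2
  have hvM : ∀ n : Fin B, ∀ y : {y // y ∈ v n}, y.1 ∈ ℬ (n.1 : ℤ) := fun n y => by
    rw [← hv n]; exact Submodule.subset_span y.2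
  choose w hwm hw using fun (n : Fin B) (x : {x // x ∈ u n}) (y : {y // y ∈ v n}) =>
    hmemT (n.1 : ℤ) x.1 y.1 (huM n x) (hvM n y)
  let W : Set T := ⋃ n : Fin B, Set.range fun p : {x // x ∈ u n} × {y // y ∈ v n} => w n p.1 p.2
  have hW : W.Finite := Set.finite_iUnion fun n => Set.finite_range _
  let M : Submodule τ.range T := Submodule.span τ.range W
  let Mk : Submodule k (TensorProduct k R S) := (M.restrictScalars k).map ψ.toLinearMap
  have hM : ∀ n : ℕ, ∀ a ∈ 𝒜 (n : ℤ), ∀ b ∈ ℬ (n : ℤ), a ⊗ₜ[k] b ∈ Mk := by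
    intro n
    induction n using Nat.strong_induction_on with
    | _ n ih =>
      intro a ha b hb
      rcases lt_or_ge n B with hn | hn
      · have ha' : a ∈ Submodule.span k (u ⟨n, hn⟩ : Set R) := by rw [hu]; exact ha
        have hb' : b ∈ Submodule.span k (v ⟨n, hn⟩ : Set S) := by rw [hv]; exact hb
        induction ha' using Submodule.span_induction generalizing b with
        | zero => rw [zero_tmul]; exact zero_mem _
        | add x y hx hy h1 h2 =>
          rw [add_tmul]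
          exact add_mem (h1 (hu ⟨n, hn⟩ ▸ hx) b hb hb') (h2 (hu ⟨n, hn⟩ ▸ hy) b hb hb')
        | smul c x hx h1 =>
          rw [← smul_tmul']
          exact Mk.smul_mem c (h1 (hu ⟨n, hn⟩ ▸ hx) b hb hb')
        | mem x hx =>
          clear hb
          induction hb' using Submodule.span_induction with
          | zero => rw [tmul_zero]; exact zero_mem _
          | add y y' _ _ h1 h2 => rw [tmul_add]; exact add_mem h1 h2
          | smul c y _ h1 => rw [tmul_smul]; exact Mk.smul_mem c h1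
          | mem y hy =>
            exact ⟨w ⟨n, hn⟩ ⟨x, hx⟩ ⟨y, hy⟩,
              Submodule.subset_span (Set.mem_iUnion.mpr ⟨⟨n, hn⟩, (⟨x, hx⟩, ⟨y, hy⟩), rfl⟩), hw _ _ _⟩
      · obtain ⟨c, hc⟩ := Ideal.mem_span_range_iff_exists_fun.mp
          (hBf n (by exact_mod_cast le_trans (le_max_left _ _) hn) a ha)
        obtain ⟨e, he⟩ := Ideal.mem_span_range_iff_exists_fun.mp
          (hBg n (by exact_mod_cast le_trans (le_max_right _ _) hn) b hb)
        have ha' : a = ∑ i, f i * GradedAlgebra.proj 𝒜 ((n : ℤ) - D) (c i) := by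
          conv_lhs => rw [← proj_of_mem ha, ← hc, map_sum]
          exact Finset.sum_congr rfl fun i _ => by rw [mul_comm, proj_mul_left (hf i)]
        have hb' : b = ∑ j, g j * GradedAlgebra.proj ℬ ((n : ℤ) - D) (e j) := by
          conv_lhs => rw [← proj_of_mem hb, ← he, map_sum]
          exact Finset.sum_congr rfl fun j _ => by rw [mul_comm, proj_mul_left (hg j)]
        rw [ha', hb', sum_tmul]
        refine Mk.sum_mem fun i _ => ?_
        rw [tmul_sum]
        refine Mk.sum_mem fun j _ => ?_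
        have hlow : GradedAlgebra.proj 𝒜 ((n : ℤ) - D) (c i) ⊗ₜ[k]
            GradedAlgebra.proj ℬ ((n : ℤ) - D) (e j) ∈ Mk := by
          rcases le_or_gt D n with h | h
          · refine ih (n - D) (by have := Nat.mul_pos hD₁ hD₂; show n - D < n; omega) _ ?_ _ ?_ <;>
              · rw [Nat.cast_sub h]; exact proj_mem _ _
          · rw [(Submodule.mem_bot k).mp ((hposR _ (by omega)).le (proj_mem ((n : ℤ) - D) (c i))), zero_tmul]
            exact zero_mem _
        obtain ⟨t, ht, htt⟩ := hlow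
        refine ⟨τ (X (i, j)) * t, M.smul_mem (⟨τ (X (i, j)), AlgHom.mem_range_self τ _⟩ : τ.range) ht, ?_⟩
        show ψ (τ (X (i, j)) * t) = _
        rw [map_mul, show ψ (τ (X (i, j))) = f i ⊗ₜ[k] g j from (congrArg ψ (aeval_X z (i, j))).trans (hz (i, j)),
          show ψ t = _ from htt, Algebra.TensorProduct.tmul_mul_tmul]
  have htop : M = ⊤ := by
    refine eq_top_iff.mpr fun t _ => ?_
    rw [← DirectSum.sum_support_decompose 𝒯 t]
    refine M.sum_mem fun n _ => ?_
    have h1 : ψ (DirectSum.decompose 𝒯 t n : T) ∈ (𝒯 n).map ψ.toLinearMap :=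
      Submodule.mem_map.mpr ⟨_, SetLike.coe_mem _, rfl⟩
    rw [hdegT] at h1
    have hle : Submodule.span k {x : TensorProduct k R S | ∃ a ∈ 𝒜 n, ∃ b ∈ ℬ n, x = a ⊗ₜ[k] b} ≤ Mk := by
      refine Submodule.span_le.mpr ?_
      rintro _ ⟨a, ha, b, hb, rfl⟩
      rcases lt_or_ge n 0 with hn | hn
      · rw [(Submodule.mem_bot k).mp ((hposR n hn).le ha), zero_tmul]; exact zero_mem _
      · lift n to ℕ using hn
        exact hM n a ha b hb
    obtain ⟨m, hm, hmt⟩ := hle h1
    exact hψ hmt ▸ hm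
  have : Module.Finite τ.range T := ⟨htop ▸ Submodule.fg_span hW⟩
  have : Algebra.IsIntegral τ.range T := Algebra.IsIntegral.of_finite _ _
  rw [← hdimτ, ringKrullDim_eq_of_injective_integral (A := τ.range) (B := T) Subtype.val_injective]

end Groth.Agent.SegreDim
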