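import Groth.Agent.SegreDim.SegreMod
import Groth.Agent.SegreDim.Ischebeck

/-!
# Parameters for graded modules and torsion-free homogeneous elements
-/

set_option autoImplicit false
universe u

open MvPolynomial TensorProduct

namespace Groth.Agent.SegreDim

variable {k : Type u} [Field k] {R : Type u} [CommRing R] [Algebra k R] {𝒜 : ℤ → Submodule k R}
  [GradedAlgebra 𝒜] {M : Type u} [AddCommGroup M] [Module R M] [Module k M] [IsScalarTower k R M]
  {ℳ : ℤ → AddSubgroup M} [DirectSum.Decomposition ℳ] [SetLike.GradedSMul 𝒜 ℳ] [Module.Finite R M]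

theorem exists_nat_dim (A : Type u) [CommRing A] [Algebra k A] [Algebra.FiniteType k A] [Nontrivial A] :
    ∃ n : ℕ, ringKrullDim A = n := by
  obtain ⟨n, φ, hφ⟩ := Algebra.FiniteType.iff_quotient_mvPolynomial''.mp (inferInstance : Algebra.FiniteType k A)
  have h := ringKrullDim_le_of_surjective φ.toRingHom hφ
  rw [MvPolynomial.ringKrullDim_of_isNoetherianRing, ringKrullDim_eq_zero_of_field, zero_add, Nat.card_fin] at h
  have h0 := ringKrullDim_nonneg_of_nontrivial (R := A)
  obtain ⟨d, hd⟩ := WithBot.ne_bot_iff_exists.mp (show ringKrullDim A ≠ ⊥ from fun e => by rw [e] at h0; simp at h0)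
  rw [← hd, ← WithBot.coe_natCast, WithBot.coe_le_coe] at h
  obtain ⟨m, hm⟩ := ENat.ne_top_iff_exists.mp (ne_top_of_le_ne_top (ENat.natCast_ne_top n) h)
  exact ⟨m, by rw [← hd, ← hm]; rfl⟩

include ℳ in
/-- Parameters of any number, for finiteness. -/
theorem exists_params_any (hpos : ∀ n : ℤ, n < 0 → 𝒜 n = ⊥) (h0 : 𝒜 0 = Submodule.span k {(1 : R)})
    [Algebra.FiniteType k R] :
    ∃ (r D₀ : ℕ), 0 < D₀ ∧ ∀ D : ℕ, 0 < D → D₀ ∣ D → ∃ f : Fin r → R, (∀ i, f i ∈ 𝒜 (D : ℤ)) ∧
      ∃ B : ℕ, ∀ n : ℤ, (B : ℤ) ≤ n → ∀ a ∈ 𝒜 n, a ∈ Module.annihilator R M ⊔ Ideal.span (Set.range f) := by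
  rcases subsingleton_or_nontrivial (R ⧸ Module.annihilator R M) with h | h
  · refine ⟨0, 1, one_pos, fun D _ _ => ⟨Fin.elim0, fun i => i.elim0, 0, fun n _ a _ => ?_⟩⟩
    rw [Ideal.Quotient.subsingleton_iff.mp h, top_sup_eq]
    exact Submodule.mem_top
  · obtain ⟨r, hr⟩ := exists_nat_dim (k := k) (R ⧸ Module.annihilator R M)
    obtain ⟨D₀, hD₀, h⟩ := exists_system hpos h0 (isHomogeneous_annihilator 𝒜 ℳ) hr
    exact ⟨r, D₀, hD₀, fun D hD hdvd => (h D hD hdvd).elim fun f hf => ⟨f, hf.1, hf.2.2.2⟩⟩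

/-- In a standard graded algebra torsion-free homogeneous elements occur in all higher degrees. -/
theorem exists_free_shift (hstd : Ideal.span (⋃ n ∈ Set.Ioi (0 : ℤ), (𝒜 n : Set R)) = Ideal.span ((𝒜 1 : Submodule k R) : Set R))
    {r D : ℕ} (hD : 0 < D) {f : Fin (r + 1) → R} (hf : ∀ i, f i ∈ 𝒜 (D : ℤ)) {n : ℤ} {x : M} (hx : x ∈ ℳ n)
    (hfree : ∀ F : MvPolynomial (Fin (r + 1)) k, aeval f F • x = 0 → F = 0) (j : ℕ) :
    ∃ y : M, y ∈ ℳ (n + j) ∧ ∀ F : MvPolynomial (Fin (r + 1)) k, aeval f F • y = 0 → F = 0 := by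
  induction j with
  | zero => exact ⟨x, by simpa using hx, hfree⟩
  | succ j ih =>
    obtain ⟨y, hy, hyfree⟩ := ih
    by_contra hcon
    push Not at hcon
    have htor : ∀ a ∈ Ideal.span ((𝒜 1 : Submodule k R) : Set R),
        ∃ F : MvPolynomial (Fin (r + 1)) k, F ≠ 0 ∧ aeval f F • (a • y) = 0 := by
      intro a ha
      induction ha using Submodule.span_induction with
      | zero => exact ⟨1, one_ne_zero, by simp⟩
      | mem a ha =>
        have hay : a • y ∈ ℳ (n + (j + 1 : ℕ)) := by
          have := smul_mem_deg 𝒜 ℳ ha hy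
          rwa [Nat.cast_succ, ← add_assoc, add_comm _ (1 : ℤ)]
        obtain ⟨F, hF, hF0⟩ := hcon _ hay
        exact ⟨F, hF0, hF⟩
      | add a b _ _ ha hb =>
        obtain ⟨F, hF, hFa⟩ := ha
        obtain ⟨G, hG, hGb⟩ := hb
        refine ⟨F * G, mul_ne_zero hF hG, ?_⟩
        rw [add_smul, smul_add, map_mul]
        rw [show (aeval f F * aeval f G) • a • y = aeval f G • (aeval f F • (a • y)) by rw [mul_comm, mul_smul],
          hFa, mul_smul, hGb]
        simp
      | smul c a _ ha =>
        obtain ⟨F, hF, hFa⟩ := ha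
        exact ⟨F, hF, by rw [smul_eq_mul, mul_smul, smul_comm, hFa, smul_zero]⟩
    have hmem : f 0 ∈ Ideal.span ((𝒜 1 : Submodule k R) : Set R) := by
      rw [← hstd]
      exact Ideal.subset_span (Set.mem_biUnion (show (D : ℤ) ∈ Set.Ioi 0 by simpa using hD) (hf 0))
    obtain ⟨F, hF, hF0⟩ := htor _ hmem
    refine mul_ne_zero hF (X_ne_zero (0 : Fin (r + 1))) (hyfree _ ?_)
    rwa [map_mul, aeval_X, mul_smul]

theorem le_dim_of_cm [Algebra.FiniteType k R] (hpos : ∀ n : ℤ, n < 0 → 𝒜 n = ⊥)
    (h0 : 𝒜 0 = Submodule.span k {(1 : R)}) {r : ℕ} (hr : ringKrullDim (R ⧸ Module.annihilator R M) = r)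
    (hcm : ∀ (q : Ideal R) [q.IsPrime], Subsingleton (LocalizedModule q.primeCompl M) ∨
      LocCoh.IsCohenMacaulayModule (Localization.AtPrime q) (LocalizedModule q.primeCompl M))
    (G : HomGens 𝒜) [G.irrel.IsPrime] (hJ : (Module.annihilator R M).IsHomogeneous 𝒜)
    {q : Ideal R} (hq : q ∈ associatedPrimes R M) (hqm : q ≤ G.irrel) :
    (r : WithBot ℕ∞) ≤ ringKrullDim (R ⧸ q) := by
  classical
  have : IsNoetherianRing R := Algebra.FiniteType.isNoetherianRing k R
  have hqp := hq.1
  set m := G.irrel with hm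
  let Rm := Localization.AtPrime m
  let Mm := LocalizedModule m.primeCompl M
  let qm := q.map (algebraMap R Rm)
  have hdisj : Disjoint (m.primeCompl : Set R) (q : Set R) :=
    Set.disjoint_left.mpr fun a ha haq => ha (hqm haq)
  have hqmp : qm.IsPrime := IsLocalization.isPrime_of_isPrime_disjoint m.primeCompl Rm q hqp hdisj
  have hcq : qm.comap (algebraMap R Rm) = q :=
    IsLocalization.comap_map_of_isPrime_disjoint m.primeCompl Rm hqp hdisj
  have hass : qm ∈ associatedPrimes Rm Mm :=
    Module.associatedPrimes.mem_associatedPrimes_of_comap_mem_associatedPrimes_of_isLocalizedModule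
      m.primeCompl (LocalizedModule.mkLinearMap m.primeCompl M) qm (by rw [hcq]; exact hq)
  have hnt : ¬ Subsingleton Mm := fun h => by
    rw [associatedPrimes.eq_empty_of_subsingleton] at hass
    exact hass
  have hcm' := (hcm m).resolve_left hnt
  -- the localized support is at least `r`-dimensional
  have hsupp : (r : WithBot ℕ∞) ≤ Module.supportDim Rm Mm := by
    rw [Module.supportDim_eq_ringKrullDim_quotient_annihilator, ringKrullDim_quotient]
    rw [ringKrullDim_quotient] at hr
    obtain ⟨l, hl⟩ := Order.le_krullDim_iff.mp hr.ge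
    obtain ⟨p₀, hp₀, hple⟩ := Ideal.exists_minimalPrimes_le (show Module.annihilator R M ≤ l.head.1.asIdeal from l.head.2)
    have hp₀m : p₀ ≤ m := le_irrel G hpos h0 hp₀.1.1.ne_top (isHomogeneous_minimalPrimes hJ hp₀)
    have := hp₀.1.1
    -- a chain of length `r` from `p₀` to `m`
    let A := R ⧸ p₀
    have : Algebra.FiniteType k A := Algebra.FiniteType.of_surjective (Ideal.Quotient.mkₐ k p₀) Ideal.Quotient.mk_surjective
    have hmmax : m.IsMaximal := by
      have : Nontrivial R := ⟨1, 0, fun e => hqp.ne_top ((Ideal.eq_top_iff_one q).mpr (e ▸ q.zero_mem))⟩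
      exact irrel_isPrime G hpos
    let mb : Ideal A := m.map (Ideal.Quotient.mk p₀)
    have hmb : mb.IsMaximal :=
      Ideal.IsMaximal.map_of_surjective_of_ker_le Ideal.Quotient.mk_surjective (by rw [Ideal.mk_ker]; exact hp₀m)
    have hh := DimFormula.height_add_ringKrullDim_quotient k (⟨mb, hmb.isPrime⟩ : PrimeSpectrum A)
    rw [show ringKrullDim (A ⧸ mb) = 0 from (letI := Ideal.Quotient.field mb; ringKrullDim_eq_zero_of_field _), add_zero,
      PrimeSpectrum.height_eq_orderHeight] at hh
    have hA : (r : WithBot ℕ∞) ≤ ringKrullDim A := by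
      rw [← hl, ringKrullDim_quotient]
      exact Order.LTSeries.length_le_krullDim ((⟨l.length, fun i => ⟨(l i).1, hple.trans (l.monotone (Fin.zero_le i))⟩,
        fun i => l.step i⟩ : LTSeries (PrimeSpectrum.zeroLocus (R := R) p₀)))
    rw [← hh, ← WithBot.coe_natCast, WithBot.coe_le_coe] at hA
    obtain ⟨c, hclast, hclen⟩ := Order.exists_series_of_le_height _ hA
    rw [← hclen]
    have hcm : ∀ i, (c i).asIdeal.comap (Ideal.Quotient.mk p₀) ≤ m := fun i => by
      have h := c.monotone (Fin.le_last i)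
      rw [show c (Fin.last _) = c.last from rfl, hclast] at h
      refine (Ideal.comap_mono h).trans ?_
      rw [Ideal.comap_map_of_surjective' _ Ideal.Quotient.mk_surjective, Ideal.mk_ker, sup_eq_left.mpr hp₀m]
    have hd : ∀ i, Disjoint (m.primeCompl : Set R) ((c i).asIdeal.comap (Ideal.Quotient.mk p₀) : Set R) := fun i =>
      Set.disjoint_left.mpr fun a ha ha' => ha (hcm i ha')
    have hann : ∀ i, Module.annihilator Rm Mm ≤ ((c i).asIdeal.comap (Ideal.Quotient.mk p₀)).map (algebraMap R Rm) := by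
      intro i z hz
      obtain ⟨⟨a, t⟩, hat⟩ := IsLocalization.surj m.primeCompl z
      have haz : algebraMap R Rm a ∈ Module.annihilator Rm Mm := hat ▸ Ideal.mul_mem_right _ _ hz
      obtain ⟨gs, hgs⟩ := (Module.Finite.fg_top (R := R) (M := M))
      have hex : ∀ x : M, ∃ u : m.primeCompl, (u : R) • a • x = 0 := fun x => by
        have h1 := Module.mem_annihilator.mp haz (LocalizedModule.mkLinearMap m.primeCompl M x)
        rw [algebraMap_smul, ← map_smul] at h1
        exact (IsLocalizedModule.eq_zero_iff m.primeCompl (LocalizedModule.mkLinearMap m.primeCompl M)).mp h1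
      choose u hu using hex
      have hua : (∏ x ∈ gs, (u x : R)) * a ∈ Module.annihilator R M := by
        refine mem_annihilator_of_span hgs fun x hx => ?_
        rw [← Finset.mul_prod_erase _ _ hx, mul_comm ((u x : R)), mul_assoc, mul_smul, mul_smul, hu, smul_zero]
      have h2 : Ideal.Quotient.mk p₀ ((∏ x ∈ gs, (u x : R)) * a) ∈ (c i).asIdeal := by
        rw [Ideal.Quotient.eq_zero_iff_mem.mpr (hp₀.1.2 hua)]; exact zero_mem _
      have ha : a ∈ (c i).asIdeal.comap (Ideal.Quotient.mk p₀) := by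
        refine ((Ideal.IsPrime.comap (Ideal.Quotient.mk p₀)).mem_or_mem (Ideal.mem_comap.mpr h2)).resolve_left fun h => ?_
        exact m.primeCompl.prod_mem (fun x _ => (u x).2) (hcm i h)
      have : z * algebraMap R Rm t ∈ ((c i).asIdeal.comap (Ideal.Quotient.mk p₀)).map (algebraMap R Rm) :=
        hat.symm ▸ Ideal.mem_map_of_mem _ ha
      exact (Ideal.mul_unit_mem_iff_mem _ (IsLocalization.map_units Rm t)).mp this
    exact Order.LTSeries.length_le_krullDim ((⟨c.length, fun i =>
      ⟨⟨((c i).asIdeal.comap (Ideal.Quotient.mk p₀)).map (algebraMap R Rm),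
        IsLocalization.isPrime_of_isPrime_disjoint m.primeCompl Rm _ (Ideal.IsPrime.comap _) (hd i)⟩, hann i⟩,
      fun i => by
        show ((c i.castSucc).asIdeal.comap (Ideal.Quotient.mk p₀)).map (algebraMap R Rm) <
          ((c i.succ).asIdeal.comap (Ideal.Quotient.mk p₀)).map (algebraMap R Rm)
        refine lt_of_le_of_ne (Ideal.map_mono (Ideal.comap_mono (c.step i).le)) fun e => ?_
        have e' := congrArg (Ideal.comap (algebraMap R Rm)) e
        replace e' := (IsLocalization.comap_map_of_isPrime_disjoint m.primeCompl Rm (Ideal.IsPrime.comap _) (hd i.castSucc)).symm.trans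
          (e'.trans (IsLocalization.comap_map_of_isPrime_disjoint m.primeCompl Rm (Ideal.IsPrime.comap _) (hd i.succ)))
        exact (c.step i).ne (PrimeSpectrum.ext (Ideal.comap_injective_of_surjective _ Ideal.Quotient.mk_surjective e'))⟩ :
      LTSeries (PrimeSpectrum.zeroLocus (R := Rm) (Module.annihilator Rm Mm))))
  have hle : ringKrullDim (Rm ⧸ qm) ≤ ringKrullDim (R ⧸ q) := by
    rw [ringKrullDim_quotient, ringKrullDim_quotient]
    refine Order.krullDim_le_of_strictMono
      (fun x => ⟨PrimeSpectrum.comap (algebraMap R Rm) x.1, fun a ha => x.2 (Ideal.mem_map_of_mem _ ha)⟩) ?_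
    intro x y hxy
    exact (IsLocalization.orderEmbedding m.primeCompl Rm).lt_iff_lt.mpr hxy
  rw [LocCoh.IsCohenMacaulayModule] at hcm'
  exact hsupp.trans (hcm'.le.trans ((depth_le_dim qm hass).trans hle))

/-- In a Cohen–Macaulay module every nonzero homogeneous element is torsion-free over the parameters. -/
theorem free_of_cm (hpos : ∀ n : ℤ, n < 0 → 𝒜 n = ⊥) (h0 : 𝒜 0 = Submodule.span k {(1 : R)})
    [Algebra.FiniteType k R] {r : ℕ} (hr : ringKrullDim (R ⧸ Module.annihilator R M) = r)
    (hcm : ∀ (q : Ideal R) [q.IsPrime], Subsingleton (LocalizedModule q.primeCompl M) ∨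
      LocCoh.IsCohenMacaulayModule (Localization.AtPrime q) (LocalizedModule q.primeCompl M))
    {f : Fin r → R}
    (hint : ((Ideal.Quotient.mkₐ k (Module.annihilator R M)).comp (aeval f)).toRingHom.IsIntegral)
    {n : ℤ} {x : M} (hx : x ∈ ℳ n) (hx0 : x ≠ 0) (F : MvPolynomial (Fin r) k) (hF : aeval f F • x = 0) :
    F = 0 := by
  classical
  have : IsNoetherianRing R := Algebra.FiniteType.isNoetherianRing k R
  let A : Ideal R := (Submodule.span R {x}).annihilator
  have hA : A.IsHomogeneous 𝒜 := by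
    intro i a ha
    rw [Submodule.mem_annihilator_span_singleton] at ha ⊢
    have h := prM_smul_of_mem 𝒜 ℳ hx (i + n) a
    rw [ha, map_zero, add_sub_cancel_right, GradedAlgebra.proj_apply] at h
    exact h.symm
  have hAne : A ≠ ⊤ := fun h => hx0 (by simpa using (Submodule.mem_annihilator_span_singleton x (1 : R)).mp (h.ge Submodule.mem_top))
  obtain ⟨q, hq⟩ := Ideal.nonempty_minimalPrimes hAne
  have hqass : q ∈ associatedPrimes R M :=
    associatedPrimes.subset_of_injective (Submodule.span R {x}).injective_subtype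
      (Module.associatedPrimes.minimalPrimes_annihilator_subset_associatedPrimes R (Submodule.span R {x}) hq)
  have hqp := hq.1.1
  obtain ⟨G⟩ := exists_homGens hpos h0
  have : Nontrivial R := ⟨1, 0, fun e => hqp.ne_top ((Ideal.eq_top_iff_one q).mpr (e ▸ q.zero_mem))⟩
  have hqm : q ≤ G.irrel := le_irrel G hpos h0 hqp.ne_top (isHomogeneous_minimalPrimes hA hq)
  have := (irrel_isPrime G hpos).isPrime
  have hJ : (Module.annihilator R M).IsHomogeneous 𝒜 := isHomogeneous_annihilator 𝒜 ℳ
  have hge := le_dim_of_cm hpos h0 hr hcm G hJ hqass hqm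
  have hJq : Module.annihilator R M ≤ q := fun a ha =>
    hq.1.2 ((Submodule.mem_annihilator_span_singleton x a).mpr (Module.mem_annihilator.mp ha x))
  have hdim : ringKrullDim (R ⧸ q) = r :=
    le_antisymm ((ringKrullDim_le_of_surjective _ (Ideal.Quotient.factor_surjective hJq)).trans hr.le) hge
  have hint' : ((Ideal.Quotient.mkₐ k q).comp (aeval f)).toRingHom.IsIntegral := by
    have h := RingHom.IsIntegral.trans _ _ hint
      (RingHom.IsIntegral.of_finite (RingHom.Finite.of_surjective _ (Ideal.Quotient.factor_surjective hJq)))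
    exact h
  refine injective_of_dim hdim _ hint' ?_
  rw [map_zero]
  exact Ideal.Quotient.eq_zero_iff_mem.mpr (hq.1.2 ((Submodule.mem_annihilator_span_singleton x _).mpr hF))

end Groth.Agent.SegreDim
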