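import Groth.Agent.SegreDim.Noether

/-!
# Finitely generated graded modules over a positively graded algebra over a field
-/

set_option autoImplicit false
set_option linter.unusedSectionVars false
universe u

open DirectSum

namespace Groth.Agent.SegreDim

variable {k : Type u} [Field k] {R : Type u} [CommRing R] [Algebra k R] (𝒜 : ℤ → Submodule k R)
  [GradedAlgebra 𝒜] {M : Type u} [AddCommGroup M] [Module R M] [Module k M] [IsScalarTower k R M]
  (ℳ : ℤ → AddSubgroup M) [DirectSum.Decomposition ℳ] [SetLike.GradedSMul 𝒜 ℳ]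

/-- The component of degree `n`. -/
def prM (n : ℤ) : M →+ M :=
  ((ℳ n).subtype.comp (DFinsupp.evalAddMonoidHom n)).comp (DirectSum.decomposeAddEquiv ℳ).toAddMonoidHom

theorem prM_apply (n : ℤ) (x : M) : prM ℳ n x = (DirectSum.decompose ℳ x n : M) := rfl

theorem prM_mem (n : ℤ) (x : M) : prM ℳ n x ∈ ℳ n := (DirectSum.decompose ℳ x n).2

theorem prM_of_mem {n : ℤ} {x : M} (hx : x ∈ ℳ n) : prM ℳ n x = x := by
  rw [prM_apply, DirectSum.decompose_of_mem_same ℳ hx]

theorem prM_of_ne {n m : ℤ} {x : M} (hx : x ∈ ℳ n) (h : n ≠ m) : prM ℳ m x = 0 := by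
  rw [prM_apply, DirectSum.decompose_of_mem_ne ℳ hx h]

include 𝒜 in
theorem smul_mem_piece (c : k) {n : ℤ} {x : M} (hx : x ∈ ℳ n) : c • x ∈ ℳ n := by
  rw [← algebraMap_smul R c x]
  have h := SetLike.GradedSMul.smul_mem (A := 𝒜) (B := ℳ) (SetLike.algebraMap_mem_graded 𝒜 c) hx
  rwa [vadd_eq_add, zero_add] at h

include 𝒜 in
theorem smul_mem_deg {d n : ℤ} {a : R} (ha : a ∈ 𝒜 d) {x : M} (hx : x ∈ ℳ n) : a • x ∈ ℳ (d + n) :=
  SetLike.GradedSMul.smul_mem (A := 𝒜) (B := ℳ) ha hx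

theorem prM_smul_of_mem {e : ℤ} {x : M} (hx : x ∈ ℳ e) (n : ℤ) (a : R) :
    prM ℳ n (a • x) = GradedAlgebra.proj 𝒜 (n - e) a • x := by
  classical
  induction a using DirectSum.Decomposition.inductionOn 𝒜 with
  | zero => rw [zero_smul, map_zero, map_zero, zero_smul]
  | add a b ha hb => rw [add_smul, map_add, map_add, ha, hb, add_smul]
  | @homogeneous d a =>
    have h := smul_mem_deg 𝒜 ℳ a.2 hx
    by_cases hd : d + e = n
    · subst hd
      rw [prM_of_mem ℳ h, add_sub_cancel_right, proj_of_mem a.2]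
    · rw [prM_of_ne ℳ h hd, proj_of_ne a.2 (fun h' => hd (by omega)), zero_smul]

theorem prM_smul_deg {d : ℤ} {a : R} (ha : a ∈ 𝒜 d) (n : ℤ) (x : M) :
    prM ℳ n (a • x) = a • prM ℳ (n - d) x := by
  classical
  induction x using DirectSum.Decomposition.inductionOn ℳ with
  | zero => rw [smul_zero, map_zero, map_zero, smul_zero]
  | add x y hx hy => rw [smul_add, map_add, map_add, hx, hy, smul_add]
  | @homogeneous e x =>
    have h := smul_mem_deg 𝒜 ℳ ha x.2
    by_cases hd : d + e = n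
    · subst hd
      rw [prM_of_mem ℳ h, add_sub_cancel_left, prM_of_mem ℳ x.2]
    · rw [prM_of_ne ℳ h hd, prM_of_ne ℳ x.2 (fun h' => hd (by omega)), smul_zero]

include 𝒜 ℳ in
theorem isHomogeneous_annihilator : (Module.annihilator R M).IsHomogeneous 𝒜 := by
  intro i a ha
  rw [Module.mem_annihilator] at ha ⊢
  intro x
  induction x using DirectSum.Decomposition.inductionOn ℳ with
  | zero => rw [smul_zero]
  | add x y hx hy => rw [smul_add, hx, hy, add_zero]
  | @homogeneous e x =>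
    have h := prM_smul_of_mem 𝒜 ℳ x.2 (i + e) a
    rw [ha, map_zero, add_sub_cancel_right, GradedAlgebra.proj_apply] at h
    exact h.symm

variable [Module.Finite R M]

/-- Finitely many homogeneous generators. -/
theorem exists_homogeneous_gens :
    ∃ g : Finset (ℤ × M), (∀ p ∈ g, p.2 ∈ ℳ p.1) ∧ Submodule.span R (Prod.snd '' (g : Set (ℤ × M))) = ⊤ := by
  classical
  obtain ⟨s, hs⟩ := (Module.Finite.fg_top (R := R) (M := M))
  refine ⟨s.biUnion fun x => (DirectSum.decompose ℳ x).support.image fun n => (n, (DirectSum.decompose ℳ x n : M)),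
    fun p hp => ?_, ?_⟩
  · simp only [Finset.mem_biUnion, Finset.mem_image] at hp
    obtain ⟨x, -, n, -, rfl⟩ := hp
    exact SetLike.coe_mem _
  · refine top_le_iff.mp (hs.ge.trans (Submodule.span_le.mpr fun x hx => ?_))
    rw [← DirectSum.sum_support_decompose ℳ x]
    refine Submodule.sum_mem _ fun n hn => Submodule.subset_span ⟨(n, _), ?_, rfl⟩
    exact Finset.mem_biUnion.mpr ⟨x, hx, Finset.mem_image_of_mem _ hn⟩

include 𝒜 in
/-- Writing a homogeneous element in homogeneous generators. -/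
theorem exists_homogeneous_sum {g : Finset (ℤ × M)} (hg : ∀ p ∈ g, p.2 ∈ ℳ p.1)
    (hspan : Submodule.span R (Prod.snd '' (g : Set (ℤ × M))) = ⊤) {n : ℤ} {x : M} (hx : x ∈ ℳ n) :
    ∃ c : ℤ × M → R, (∀ p, c p ∈ 𝒜 (n - p.1)) ∧ x = ∑ p ∈ g, c p • p.2 := by
  classical
  obtain ⟨l, hl, hc⟩ := (Finsupp.mem_span_image_iff_linearCombination R).mp
    (hspan.ge (Submodule.mem_top : x ∈ (⊤ : Submodule R M)))
  rw [Finsupp.linearCombination_apply_of_mem_supported R hl] at hc
  let c : ℤ × M → R := fun p => l p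
  refine ⟨fun p => GradedAlgebra.proj 𝒜 (n - p.1) (c p), fun p => proj_mem _ _, ?_⟩
  conv_lhs => rw [← prM_of_mem ℳ hx, ← hc, map_sum]
  exact Finset.sum_congr rfl fun p hp => prM_smul_of_mem 𝒜 ℳ (hg p hp) n (c p)

include 𝒜 in
theorem exists_low (hpos : ∀ n : ℤ, n < 0 → 𝒜 n = ⊥) : ∃ E : ℤ, ∀ n < E, ∀ x ∈ ℳ n, x = 0 := by
  classical
  obtain ⟨g, hg, hspan⟩ := exists_homogeneous_gens (R := R) ℳ
  obtain ⟨E, hE⟩ := (g.image Prod.fst).bddBelow
  refine ⟨E, fun n hn x hx => ?_⟩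
  obtain ⟨c, hc, hsum⟩ := exists_homogeneous_sum 𝒜 ℳ hg hspan hx
  rw [hsum]
  refine Finset.sum_eq_zero fun p hp => ?_
  have hlt : n - p.1 < 0 := by
    have := hE (Finset.mem_coe.mpr (Finset.mem_image_of_mem _ hp)); omega
  rw [(Submodule.mem_bot k).mp ((hpos _ hlt).le (hc p)), zero_smul]

include 𝒜 in
theorem exists_span_piece (hfg : ∀ n : ℤ, (𝒜 n).FG) (n : ℤ) :
    ∃ s : Finset M, (∀ x ∈ s, x ∈ ℳ n) ∧ ∀ x ∈ ℳ n, x ∈ Submodule.span k (s : Set M) := by
  classical
  obtain ⟨g, hg, hspan⟩ := exists_homogeneous_gens (R := R) ℳ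
  choose u hu using hfg
  refine ⟨g.biUnion fun p => (u (n - p.1)).image fun a => a • p.2, fun x hx => ?_, fun x hx => ?_⟩
  · simp only [Finset.mem_biUnion, Finset.mem_image] at hx
    obtain ⟨p, hp, a, ha, rfl⟩ := hx
    have ha' : a ∈ 𝒜 (n - p.1) := by rw [← hu]; exact Submodule.subset_span ha
    have h := smul_mem_deg 𝒜 ℳ ha' (hg p hp)
    rwa [sub_add_cancel] at h
  · obtain ⟨c, hc, hsum⟩ := exists_homogeneous_sum 𝒜 ℳ hg hspan hx
    rw [hsum]
    refine Submodule.sum_mem _ fun p hp => ?_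
    have hcp : c p ∈ Submodule.span k (u (n - p.1) : Set R) := by rw [hu]; exact hc p
    generalize c p = cp at hcp ⊢
    induction hcp using Submodule.span_induction with
    | zero => rw [zero_smul]; exact zero_mem _
    | add a b _ _ ha hb => rw [add_smul]; exact add_mem ha hb
    | smul t a _ ha => rw [smul_assoc]; exact Submodule.smul_mem _ t ha
    | mem a ha =>
      exact Submodule.subset_span (Finset.mem_biUnion.mpr ⟨p, hp, Finset.mem_image_of_mem _ ha⟩)

include 𝒜 in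
/-- Large degree pieces are divisible by a system of parameters. -/
theorem exists_divisible {r D : ℕ} {f : Fin r → R} (hf : ∀ i, f i ∈ 𝒜 (D : ℤ)) {B : ℕ}
    (hB : ∀ n : ℤ, (B : ℤ) ≤ n → ∀ a ∈ 𝒜 n, a ∈ Module.annihilator R M ⊔ Ideal.span (Set.range f)) :
    ∃ B' : ℤ, ∀ n : ℤ, B' ≤ n → ∀ x ∈ ℳ n, ∃ y : Fin r → M,
      (∀ i, y i ∈ ℳ (n - D)) ∧ x = ∑ i, f i • y i := by
  classical
  obtain ⟨g, hg, hspan⟩ := exists_homogeneous_gens (R := R) ℳ
  obtain ⟨E, hE⟩ := (g.image Prod.fst).bddAbove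
  refine ⟨B + E, fun n hn x hx => ?_⟩
  obtain ⟨c, hc, hsum⟩ := exists_homogeneous_sum 𝒜 ℳ hg hspan hx
  have hmem : ∀ p ∈ g, c p ∈ Module.annihilator R M ⊔ Ideal.span (Set.range f) := fun p hp =>
    hB _ (by have := hE (Finset.mem_coe.mpr (Finset.mem_image_of_mem _ hp)); omega) _ (hc p)
  have hy : x ∈ Ideal.span (Set.range f) • (⊤ : Submodule R M) := by
    rw [hsum]
    refine Submodule.sum_mem _ fun p hp => ?_
    obtain ⟨a, ha, b, hb, hab⟩ := Submodule.mem_sup.mp (hmem p hp)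
    rw [← hab, add_smul, Module.mem_annihilator.mp ha, zero_add]
    exact Submodule.smul_mem_smul hb Submodule.mem_top
  rw [← Submodule.span_univ, Submodule.span_smul_span] at hy
  obtain ⟨y, hy⟩ : ∃ y : Fin r → M, x = ∑ i, f i • y i := by
    clear hx hsum hmem hc
    induction hy using Submodule.span_induction with
    | zero => exact ⟨0, by simp⟩
    | add a b _ _ ha hb =>
      obtain ⟨y, rfl⟩ := ha; obtain ⟨z, rfl⟩ := hb
      exact ⟨y + z, by simp [smul_add, Finset.sum_add_distrib]⟩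
    | smul t a _ ha =>
      obtain ⟨y, rfl⟩ := ha
      exact ⟨t • y, by simp [Finset.smul_sum, smul_comm t]⟩
    | mem a ha =>
      obtain ⟨_, ⟨i, rfl⟩, z, -, rfl⟩ := Set.mem_smul.mp ha
      exact ⟨Pi.single i z, by simp [Pi.single_apply]⟩
  refine ⟨fun i => prM ℳ (n - D) (y i), fun i => prM_mem ℳ _ _, ?_⟩
  conv_lhs => rw [← prM_of_mem ℳ hx, hy, map_sum]
  exact Finset.sum_congr rfl fun i _ => prM_smul_deg 𝒜 ℳ (hf i) n (y i)

omit [Module.Finite R M] in
/-- An element of a finite family of scalars that annihilate a spanning set kills everything. -/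
theorem mem_annihilator_of_span {S : Set M} (hS : Submodule.span R S = ⊤) {a : R}
    (h : ∀ x ∈ S, a • x = 0) : a ∈ Module.annihilator R M := by
  rw [← Submodule.annihilator_top, ← hS, Submodule.mem_annihilator_span]
  exact fun x => h x.1 x.2

include 𝒜 in
/-- Some homogeneous element is torsion-free over the parameters. -/
theorem exists_free_element {r : ℕ} {f : Fin r → R}
    (hinj : ∀ F : MvPolynomial (Fin r) k, MvPolynomial.aeval f F ∈ Module.annihilator R M → F = 0) :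
    ∃ (n : ℤ) (x : M), x ∈ ℳ n ∧ ∀ F : MvPolynomial (Fin r) k, MvPolynomial.aeval f F • x = 0 → F = 0 := by
  classical
  by_contra hcon
  push Not at hcon
  obtain ⟨g, hg, hspan⟩ := exists_homogeneous_gens (R := R) ℳ
  choose F hF hF0 using fun p : {p // p ∈ g} => hcon p.1.1 p.1.2 (hg p.1 p.2)
  refine (Finset.prod_ne_zero_iff.mpr fun p _ => hF0 p : ∏ p, F p ≠ 0) (hinj _ ?_)
  refine mem_annihilator_of_span hspan ?_
  rintro _ ⟨p, hp, rfl⟩
  rw [← Finset.mul_prod_erase _ _ (Finset.mem_univ (⟨p, hp⟩ : {p // p ∈ g})), map_mul, mul_comm, mul_smul,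
    hF, smul_zero]

end Groth.Agent.SegreDim
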