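import Groth.Agent.SegreDim.GradedMod
import Groth.Agent.SegreDim.Main
import Groth.Prelude.Def_GrSeg

/-!
# Finiteness and dimension of Segre products of modules
-/

set_option autoImplicit false
universe u

open MvPolynomial TensorProduct

namespace Groth.Agent.SegreDim

variable {k : Type u} [Field k] {R : Type u} [CommRing R] [Algebra k R] {𝒜 : ℤ → Submodule k R}
  [GradedAlgebra 𝒜] {S : Type u} [CommRing S] [Algebra k S] {ℬ : ℤ → Submodule k S} [GradedAlgebra ℬ]
  {T : Type u} [CommRing T] [Algebra k T] {𝒯 : ℤ → Submodule k T} [GradedAlgebra 𝒯]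
  {ψ : T →ₐ[k] R ⊗[k] S}
  {M : Type u} [AddCommGroup M] [Module R M] [Module k M] [IsScalarTower k R M]
  {ℳ : ℤ → AddSubgroup M} [DirectSum.Decomposition ℳ] [SetLike.GradedSMul 𝒜 ℳ] [Module.Finite R M]
  {N : Type u} [AddCommGroup N] [Module S N] [Module k N] [IsScalarTower k S N]
  {𝒩 : ℤ → AddSubgroup N} [DirectSum.Decomposition 𝒩] [SetLike.GradedSMul ℬ 𝒩] [Module.Finite S N]
  {P : Type u} [AddCommGroup P] [Module T P] [Module k P] [IsScalarTower k T P]
  {𝒬 : ℤ → AddSubgroup P} [DirectSum.Decomposition 𝒬] {φ : P →ₗ[k] M ⊗[k] N}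

theorem exists_preimages {r s D : ℕ} (hT : GrSeg.IsSegreRing 𝒜 ℬ 𝒯 ψ) {f : Fin r → R}
    (hf : ∀ i, f i ∈ 𝒜 (D : ℤ)) {g : Fin s → S} (hg : ∀ j, g j ∈ ℬ (D : ℤ)) :
    ∃ z : Fin r × Fin s → T, ∀ p, ψ (z p) = f p.1 ⊗ₜ[k] g p.2 := by
  have h : ∀ p : Fin r × Fin s, ∃ t : T, ψ t = f p.1 ⊗ₜ[k] g p.2 := fun p => by
    have h1 : f p.1 ⊗ₜ[k] g p.2 ∈ (𝒯 (D : ℤ)).map ψ.toLinearMap := by
      rw [hT.2]; exact Submodule.subset_span ⟨_, hf p.1, _, hg p.2, rfl⟩
    obtain ⟨t, -, ht⟩ := Submodule.mem_map.mp h1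
    exact ⟨t, ht⟩
  exact ⟨fun p => (h p).choose, fun p => (h p).choose_spec⟩

/-- Finiteness over the parameters. -/
theorem finite_adjoin (hposR : ∀ n : ℤ, n < 0 → 𝒜 n = ⊥) (hfgR : ∀ n : ℤ, (𝒜 n).FG)
    (hfgS : ∀ n : ℤ, (ℬ n).FG) (hP : GrSeg.IsSegreMod ψ ℳ 𝒩 𝒬 φ) {r s D : ℕ} (hD : 0 < D)
    {f : Fin r → R} (hf : ∀ i, f i ∈ 𝒜 (D : ℤ)) {Bf : ℕ}
    (hBf : ∀ n : ℤ, (Bf : ℤ) ≤ n → ∀ a ∈ 𝒜 n, a ∈ Module.annihilator R M ⊔ Ideal.span (Set.range f))
    {g : Fin s → S} (hg : ∀ j, g j ∈ ℬ (D : ℤ)) {Bg : ℕ}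
    (hBg : ∀ n : ℤ, (Bg : ℤ) ≤ n → ∀ a ∈ ℬ n, a ∈ Module.annihilator S N ⊔ Ideal.span (Set.range g))
    (z : Fin r × Fin s → T) (hz : ∀ p, ψ (z p) = f p.1 ⊗ₜ[k] g p.2) :
    Module.Finite (aeval z : MvPolynomial (Fin r × Fin s) k →ₐ[k] T).range P := by
  classical
  obtain ⟨BM, hM⟩ := exists_divisible 𝒜 ℳ hf hBf
  obtain ⟨BN, hN⟩ := exists_divisible ℬ 𝒩 hg hBg
  obtain ⟨E, hE⟩ := exists_low 𝒜 ℳ hposR
  choose u hum hu using exists_span_piece 𝒜 ℳ hfgR
  choose v hvm hv using exists_span_piece ℬ 𝒩 hfgS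
  have hpre : ∀ (n : ℤ) (x : M) (y : N), x ∈ ℳ n → y ∈ 𝒩 n → ∃ p : P, φ p = x ⊗ₜ[k] y := by
    intro n x y hx hy
    have : x ⊗ₜ[k] y ∈ φ '' (𝒬 n : Set P) := by
      rw [hP.image_piece]; exact Submodule.subset_span ⟨x, hx, y, hy, rfl⟩
    obtain ⟨p, -, hp⟩ := this
    exact ⟨p, hp⟩
  let H : ℤ := max BM BN
  let τ : MvPolynomial (Fin r × Fin s) k →ₐ[k] T := aeval z
  let W : Set P := φ ⁻¹' (⋃ n ∈ Finset.Ico E H, Set.image2 (fun x y => x ⊗ₜ[k] y) (u n : Set M) (v n : Set N))
  have hW : W.Finite := Set.Finite.preimage hP.injective.injOn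
    ((Finset.finite_toSet _).biUnion fun n _ => (u n).finite_toSet.image2 _ (v n).finite_toSet)
  let L : Submodule τ.range P := Submodule.span τ.range W
  let Lk : Submodule k (M ⊗[k] N) := (L.restrictScalars k).map φ
  have key : ∀ (j : ℕ) (n : ℤ), n < E + j → ∀ x ∈ ℳ n, ∀ y ∈ 𝒩 n, x ⊗ₜ[k] y ∈ Lk := by
    intro j
    induction j using Nat.strong_induction_on with
    | _ j ih =>
      intro n hn x hx y hy
      rcases lt_or_ge n E with hlo | hlo
      · rw [hE n hlo x hx, zero_tmul]; exact zero_mem _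
      rcases lt_or_ge n H with hhi | hhi
      · have hx' := hu n x hx
        have hy' := hv n y hy
        clear hx hy
        induction hx' using Submodule.span_induction with
        | zero => rw [zero_tmul]; exact zero_mem _
        | add a b _ _ ha hb => rw [add_tmul]; exact add_mem ha hb
        | smul c a _ ha => rw [← smul_tmul']; exact Lk.smul_mem c ha
        | mem a ha =>
          induction hy' using Submodule.span_induction with
          | zero => rw [tmul_zero]; exact zero_mem _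
          | add b b' _ _ hb hb' => rw [tmul_add]; exact add_mem hb hb'
          | smul c b _ hb => rw [tmul_smul]; exact Lk.smul_mem c hb
          | mem b hb =>
            obtain ⟨p, hp⟩ := hpre n a b (hum n a ha) (hvm n b hb)
            have hpW : p ∈ W := by
              simp only [W, Set.mem_preimage]
              rw [hp, Set.mem_iUnion₂]
              exact ⟨n, Finset.mem_Ico.mpr ⟨hlo, hhi⟩, Set.mem_image2_of_mem ha hb⟩
            exact ⟨p, Submodule.subset_span hpW, hp⟩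
      · obtain ⟨x', hx', rfl⟩ := hM n (le_trans (le_max_left _ _) hhi) x hx
        obtain ⟨y', hy', rfl⟩ := hN n (le_trans (le_max_right _ _) hhi) y hy
        rw [sum_tmul]
        refine Lk.sum_mem fun i _ => ?_
        rw [tmul_sum]
        refine Lk.sum_mem fun l _ => ?_
        obtain ⟨p, hp, hpx⟩ := ih (j - 1) (by omega) (n - D) (by omega) (x' i) (hx' i) (y' l) (hy' l)
        refine ⟨τ (X (i, l)) • p, L.smul_mem (⟨τ (X (i, l)), AlgHom.mem_range_self τ _⟩ : τ.range) hp, ?_⟩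
        rw [hP.map_smul, show τ (X (i, l)) = z (i, l) from aeval_X z (i, l), hz, show φ p = _ from hpx,
          GrSeg.act_tmul]
  refine ⟨?_⟩
  rw [show (⊤ : Submodule τ.range P) = L from (eq_top_iff.mpr fun p _ => ?_).symm]
  · exact Submodule.fg_span hW
  · rw [← DirectSum.sum_support_decompose 𝒬 p]
    refine L.sum_mem fun n _ => ?_
    have h1 : φ (DirectSum.decompose 𝒬 p n : P) ∈ GrSeg.segrePiece k ℳ 𝒩 n := by
      rw [← SetLike.mem_coe, ← hP.image_piece n]
      exact ⟨_, SetLike.coe_mem _, rfl⟩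
    have hle : GrSeg.segrePiece k ℳ 𝒩 n ≤ Lk := Submodule.span_le.mpr (by
      rintro _ ⟨x, hx, y, hy, rfl⟩
      exact key ((n - E).toNat + 1) n (by omega) x hx y hy)
    obtain ⟨q, hq, hqe⟩ := hle h1
    exact hP.injective hqe ▸ hq

/-- The dimension, given torsion-free elements in a common degree. -/
theorem supportDim_eq (hfgR : ∀ n : ℤ, (𝒜 n).FG) (hfgS : ∀ n : ℤ, (ℬ n).FG)
    (hposR : ∀ n : ℤ, n < 0 → 𝒜 n = ⊥) (hT : GrSeg.IsSegreRing 𝒜 ℬ 𝒯 ψ)
    (hP : GrSeg.IsSegreMod ψ ℳ 𝒩 𝒬 φ) {r s D : ℕ} (hD : 0 < D)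
    {f : Fin (r + 1) → R} (hf : ∀ i, f i ∈ 𝒜 (D : ℤ)) {Bf : ℕ}
    (hBf : ∀ n : ℤ, (Bf : ℤ) ≤ n → ∀ a ∈ 𝒜 n, a ∈ Module.annihilator R M ⊔ Ideal.span (Set.range f))
    {g : Fin (s + 1) → S} (hg : ∀ j, g j ∈ ℬ (D : ℤ)) {Bg : ℕ}
    (hBg : ∀ n : ℤ, (Bg : ℤ) ≤ n → ∀ a ∈ ℬ n, a ∈ Module.annihilator S N ⊔ Ideal.span (Set.range g))
    {n : ℤ} {x : M} (hx : x ∈ ℳ n) (hxfree : ∀ F : MvPolynomial (Fin (r + 1)) k, aeval f F • x = 0 → F = 0)
    {y : N} (hy : y ∈ 𝒩 n) (hyfree : ∀ F : MvPolynomial (Fin (s + 1)) k, aeval g F • y = 0 → F = 0) :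
    Module.supportDim T P = ((r + s + 1 : ℕ) : WithBot ℕ∞) := by
  classical
  obtain ⟨z, hz⟩ := exists_preimages hT hf hg
  let τ : MvPolynomial (Fin (r + 1) × Fin (s + 1)) k →ₐ[k] T := aeval z
  have hfin : Module.Finite τ.range P := finite_adjoin hposR hfgR hfgS hP hD hf hBf hg hBg z hz
  have : IsNoetherianRing τ.range :=
    isNoetherianRing_of_surjective _ _ τ.rangeRestrict.toRingHom τ.rangeRestrict_surjective
  have : Module.Finite T P := Module.Finite.of_restrictScalars_finite τ.range T P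
  let μ : MvPolynomial (Fin (r + 1) ⊕ Fin (s + 1)) k →ₐ[k] R ⊗[k] S :=
    aeval (Sum.elim (fun i => f i ⊗ₜ[k] (1 : S)) fun j => (1 : R) ⊗ₜ[k] g j)
  have hμl : ∀ i, μ (X (Sum.inl i)) = f i ⊗ₜ[k] (1 : S) := fun i => aeval_X _ _
  have hμr : ∀ j, μ (X (Sum.inr j)) = (1 : R) ⊗ₜ[k] g j := fun j => aeval_X _ _
  have hcomp : ψ.comp τ = μ.comp (segre k (r + 1) (s + 1)) := by
    refine algHom_ext fun p => ?_
    show ψ (τ (X p)) = μ (segre k (r + 1) (s + 1) (X p))
    rw [show τ (X p) = z p from aeval_X z p, hz, show segre k (r + 1) (s + 1) (X p) =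
      X (Sum.inl p.1) * X (Sum.inr p.2) from aeval_X _ _, map_mul]
    rw [hμl, hμr, Algebra.TensorProduct.tmul_mul_tmul, mul_one, one_mul]
  obtain ⟨p₀, -, hp₀⟩ : ∃ p₀ ∈ 𝒬 n, φ p₀ = x ⊗ₜ[k] y := by
    have : x ⊗ₜ[k] y ∈ φ '' (𝒬 n : Set P) := by
      rw [hP.image_piece]; exact Submodule.subset_span ⟨x, hx, y, hy, rfl⟩
    obtain ⟨p, hp, hpe⟩ := this
    exact ⟨p, hp, hpe⟩
  let evx : MvPolynomial (Fin (r + 1)) k →ₗ[k] M :=
    { toFun := fun F => aeval f F • x
      map_add' := fun a b => by rw [map_add, add_smul]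
      map_smul' := fun c a => by rw [map_smul, smul_assoc]; rfl }
  let evy : MvPolynomial (Fin (s + 1)) k →ₗ[k] N :=
    { toFun := fun F => aeval g F • y
      map_add' := fun a b => by rw [map_add, add_smul]
      map_smul' := fun c a => by rw [map_smul, smul_assoc]; rfl }
  have hev : Function.Injective (TensorProduct.map evx evy) :=
    TensorProduct.map_injective_of_flat_flat evx evy
      ((injective_iff_map_eq_zero evx).mpr hxfree) ((injective_iff_map_eq_zero evy).mpr hyfree)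
  let e := MvPolynomial.tensorEquivSum k (Fin (r + 1)) (Fin (s + 1)) k
  let m : MvPolynomial (Fin (r + 1)) k ⊗[k] MvPolynomial (Fin (s + 1)) k →ₐ[k] R ⊗[k] S :=
    Algebra.TensorProduct.map (aeval f) (aeval g)
  have hμe : ∀ w, μ (e w) = m w := by
    intro w
    have : μ.comp (e.restrictScalars k).toAlgHom = m := by
      refine Algebra.TensorProduct.ext (algHom_ext fun i => ?_) (algHom_ext fun j => ?_)
      · show μ (e (X i ⊗ₜ[k] 1)) = m (X i ⊗ₜ[k] 1)
        rw [show e (X i ⊗ₜ[k] 1) = X (Sum.inl i) from tensorEquivSum_X_tmul_one (R := k) (S := k) i, hμl]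
        simp [m]
      · show μ (e (1 ⊗ₜ[k] X j)) = m (1 ⊗ₜ[k] X j)
        rw [show e (1 ⊗ₜ[k] X j) = X (Sum.inr j) from tensorEquivSum_one_tmul_X (R := k) (S := k) j, hμr]
        simp [m]
    exact DFunLike.congr_fun this w
  have hact : ∀ w, GrSeg.act k R S M N (m w) (x ⊗ₜ[k] y) = TensorProduct.map evx evy w := by
    intro w
    induction w using TensorProduct.induction_on with
    | zero => simp
    | add a b ha hb => rw [map_add, map_add, LinearMap.add_apply, ha, hb, map_add]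
    | tmul F G =>
      rw [show m (F ⊗ₜ[k] G) = aeval f F ⊗ₜ[k] aeval g G from Algebra.TensorProduct.map_tmul _ _ _ _,
        GrSeg.act_tmul]
      rfl
  let π := Ideal.Quotient.mkₐ k (Module.annihilator T P)
  have hker : RingHom.ker (π.comp τ).toRingHom = RingHom.ker (segre k (r + 1) (s + 1)).toRingHom := by
    ext q
    rw [RingHom.mem_ker, RingHom.mem_ker]
    constructor
    · intro h
      have h1 : τ q • p₀ = 0 := Module.mem_annihilator.mp (Ideal.Quotient.eq_zero_iff_mem.mp h) p₀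
      have h2 : GrSeg.act k R S M N (ψ (τ q)) (x ⊗ₜ[k] y) = 0 := by
        rw [← hp₀, ← hP.map_smul, h1, map_zero]
      obtain ⟨w, hw⟩ := e.surjective (segre k (r + 1) (s + 1) q)
      rw [show ψ (τ q) = μ (segre k (r + 1) (s + 1) q) from DFunLike.congr_fun hcomp q, ← hw, hμe, hact] at h2
      show segre k (r + 1) (s + 1) q = 0
      rw [← hw, (injective_iff_map_eq_zero _).mp hev w h2, map_zero]
    · intro h
      have h1 : τ q = 0 := hT.1 (by
        rw [show ψ (τ q) = μ (segre k (r + 1) (s + 1) q) from DFunLike.congr_fun hcomp q,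
          show segre k (r + 1) (s + 1) q = 0 from h, map_zero, map_zero])
      show π (τ q) = 0
      rw [h1, map_zero]
  have hdim : ringKrullDim (π.comp τ).range = ((r + s + 1 : ℕ) : WithBot ℕ∞) := by
    rw [← ringKrullDim_segre k r s]
    exact ringKrullDim_eq_of_ringEquiv ((RingHom.quotientKerEquivRange (π.comp τ).toRingHom).symm.trans
      ((Ideal.quotEquivOfEq hker).trans (RingHom.quotientKerEquivRange (segre k (r + 1) (s + 1)).toRingHom)))
  -- integrality
  have hint : Algebra.IsIntegral (π.comp τ).range (T ⧸ Module.annihilator T P) := by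
    let E : T →ₗ[τ.range] Module.End τ.range P :=
      { toFun := fun t =>
          { toFun := fun p => t • p
            map_add' := fun a b => smul_add t a b
            map_smul' := fun a p => by
              show t • ((a : T) • p) = (a : T) • (t • p)
              rw [smul_comm] }
        map_add' := fun a b => LinearMap.ext fun p => add_smul a b p
        map_smul' := fun a b => LinearMap.ext fun p => mul_smul (a : T) b p }
    let F : (T ⧸ (Module.annihilator T P).restrictScalars τ.range) →ₗ[τ.range] Module.End τ.range P :=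
      Submodule.liftQ _ E fun t ht => LinearMap.ext fun p => Module.mem_annihilator.mp ht p
    have hF : Function.Injective F := by
      rw [← LinearMap.ker_eq_bot, Submodule.eq_bot_iff]
      intro t ht
      obtain ⟨t, rfl⟩ := Submodule.mkQ_surjective _ t
      exact (Submodule.Quotient.mk_eq_zero _).mpr (Module.mem_annihilator.mpr fun p => LinearMap.congr_fun ht p)
    have : IsNoetherian τ.range (Module.End τ.range P) := inferInstance
    have : Module.Finite τ.range (T ⧸ (Module.annihilator T P).restrictScalars τ.range) :=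
      Module.Finite.of_injective F hF
    have : Module.Finite τ.range (T ⧸ Module.annihilator T P) :=
      Module.Finite.equiv (Submodule.Quotient.restrictScalarsEquiv τ.range (Module.annihilator T P))
    refine ⟨fun b => ?_⟩
    obtain ⟨p, hp, hpb⟩ := Algebra.IsIntegral.isIntegral (R := τ.range) b
    let ρ : τ.range →+* (π.comp τ).range :=
      (π.toRingHom.comp τ.range.val.toRingHom).codRestrict (π.comp τ).range.toSubring (fun a => by
        obtain ⟨q, hq⟩ := a.2
        exact ⟨q, congrArg π hq⟩)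
    exact ⟨p.map ρ, hp.map ρ, by rw [Polynomial.eval₂_map]; exact hpb⟩
  rw [Module.supportDim_eq_ringKrullDim_quotient_annihilator, ← hdim]
  exact (ringKrullDim_eq_of_injective_integral (A := (π.comp τ).range) Subtype.val_injective).symm

end Groth.Agent.SegreDim
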