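import Groth.Agent.SegreDim.GradedMod

/-!
# Pieces of a standard graded algebra
-/

set_option autoImplicit false
universe u

namespace Groth.Agent.SegreDim

variable {k : Type u} [Field k] {R : Type u} [CommRing R] [Algebra k R] {𝒜 : ℤ → Submodule k R}
  [GradedAlgebra 𝒜]

/-- In a standard graded algebra the piece of degree `m > 0` is `R₁ * R_{m-1}`. -/
theorem std_piece (hstd : Ideal.span (⋃ n ∈ Set.Ioi (0 : ℤ), (𝒜 n : Set R)) = Ideal.span ((𝒜 1 : Submodule k R) : Set R))
    {m : ℤ} (hm : 0 < m) {x : R} (hx : x ∈ 𝒜 m) :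
    x ∈ Submodule.span k {z : R | ∃ a ∈ 𝒜 1, ∃ c ∈ 𝒜 (m - 1), z = a * c} := by
  classical
  have h1 : x ∈ Ideal.span ((𝒜 1 : Submodule k R) : Set R) :=
    hstd ▸ Ideal.subset_span (Set.mem_biUnion hm hx)
  rw [← proj_of_mem hx]
  clear hx hm
  induction h1 using Submodule.span_induction generalizing m with
  | zero => simp
  | add a b _ _ ha hb => rw [map_add]; exact add_mem ha hb
  | mem a ha =>
    by_cases h : (1 : ℤ) = m
    · rw [← h, proj_of_mem ha]
      exact Submodule.subset_span ⟨a, ha, 1, by simpa using SetLike.one_mem_graded 𝒜, by rw [mul_one]⟩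
    · rw [proj_of_ne ha h]; exact zero_mem _
  | smul c a _ ih =>
    induction c using DirectSum.Decomposition.inductionOn 𝒜 with
    | zero => simp
    | add c c' h h' => rw [add_smul, map_add]; exact add_mem h h'
    | @homogeneous j c =>
      rw [smul_eq_mul, proj_mul_left c.2]
      have h2 := ih (m := m - j)
      generalize GradedAlgebra.proj 𝒜 (m - j) a = w at h2 ⊢
      induction h2 using Submodule.span_induction with
      | zero => simp
      | add u v _ _ hu hv => rw [mul_add]; exact add_mem hu hv
      | smul t u _ hu => rw [mul_smul_comm]; exact Submodule.smul_mem _ t hu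
      | mem u hu =>
        obtain ⟨a', ha', c', hc', rfl⟩ := hu
        refine Submodule.subset_span ⟨a', ha', (c : R) * c', ?_, by ring⟩
        have := SetLike.mul_mem_graded c.2 hc'
        rwa [show j + (m - j - 1) = m - 1 by ring] at this

end Groth.Agent.SegreDim
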