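import Groth.Agent.SegreDim.Noether
import Groth.Agent.DimFormula.Field

/-!
# The dimension of the cone over the Segre embedding
-/

set_option autoImplicit false
universe u

open MvPolynomial

namespace Groth.Agent.SegreDim

variable (k : Type u) [Field k] (a b : ℕ)

/-- The map whose range is the coordinate ring of the cone of rank one matrices. -/
noncomputable def segre : MvPolynomial (Fin a × Fin b) k →ₐ[k] MvPolynomial (Fin a ⊕ Fin b) k :=
  aeval fun p => X (Sum.inl p.1) * X (Sum.inr p.2)

open Classical in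
/-- Setting a set of variables to zero. -/
noncomputable def kill (s : Set (Fin a ⊕ Fin b)) :
    MvPolynomial (Fin a ⊕ Fin b) k →ₐ[k] MvPolynomial (Fin a ⊕ Fin b) k :=
  aeval fun v => if v ∈ s then 0 else X v

theorem kill_comp {s s' : Set (Fin a ⊕ Fin b)} (h : s ⊆ s') :
    (kill k a b s').comp (kill k a b s) = kill k a b s' := by
  refine algHom_ext fun v => ?_
  by_cases hv : v ∈ s
  · simp [kill, hv, h hv]
  · simp [kill, hv]

/-- The generators of the cone ring. -/
noncomputable def gen (p : Fin a × Fin b) : (segre k a b).range := (segre k a b).rangeRestrict (X p)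

/-- The prime of the cone ring cut out by killing variables. -/
noncomputable def cut (s : Set (Fin a ⊕ Fin b)) : Ideal (segre k a b).range :=
  RingHom.ker ((kill k a b s).comp (segre k a b).range.val).toRingHom

instance (s : Set (Fin a ⊕ Fin b)) : (cut k a b s).IsPrime :=
  RingHom.ker_isPrime _

theorem cut_mono {s s' : Set (Fin a ⊕ Fin b)} (h : s ⊆ s') : cut k a b s ≤ cut k a b s' := fun x hx => by
  rw [cut, RingHom.mem_ker] at hx ⊢
  change kill k a b s' (x : MvPolynomial (Fin a ⊕ Fin b) k) = 0
  change kill k a b s (x : MvPolynomial (Fin a ⊕ Fin b) k) = 0 at hx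
  rw [← kill_comp k a b h, AlgHom.comp_apply, hx, map_zero]

theorem gen_mem_cut {s : Set (Fin a ⊕ Fin b)} (p : Fin a × Fin b) :
    gen k a b p ∈ cut k a b s ↔ Sum.inl p.1 ∈ s ∨ Sum.inr p.2 ∈ s := by
  rw [cut, RingHom.mem_ker]
  change kill k a b s (segre k a b (X p)) = 0 ↔ _
  by_cases h1 : Sum.inl p.1 ∈ s <;> by_cases h2 : Sum.inr p.2 ∈ s <;>
    simp [segre, kill, h1, h2, X_ne_zero]

/-- The stages of the chain of primes. -/
def stage (t : ℕ) : Set (Fin a ⊕ Fin b) :=
  {v | Sum.elim (fun i : Fin a => i.1 < min t (a - 1)) (fun j : Fin b => j.1 < t - (a - 1)) v}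

theorem stage_mono {t t' : ℕ} (h : t ≤ t') : stage a b t ⊆ stage a b t' := by
  rintro (i | j) hv
  · change i.1 < _ at hv; change i.1 < _; omega
  · change j.1 < _ at hv; change j.1 < _; omega

theorem cut_lt {t : ℕ} (ht : t < a + b - 1) (ha : 0 < a) (hb : 0 < b) :
    cut k a b (stage a b t) < cut k a b (stage a b (t + 1)) := by
  refine lt_of_le_not_ge (cut_mono k a b (stage_mono a b (Nat.le_succ t))) fun hle => ?_
  rcases lt_or_ge t (a - 1) with h | h
  · have hmem : gen k a b (⟨t, by omega⟩, ⟨b - 1, by omega⟩) ∈ cut k a b (stage a b (t + 1)) :=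
      (gen_mem_cut k a b _).mpr (Or.inl (show t < min (t + 1) (a - 1) by omega))
    rcases (gen_mem_cut k a b _).mp (hle hmem) with h' | h'
    · change t < min t (a - 1) at h'; omega
    · change b - 1 < t - (a - 1) at h'; omega
  · have hmem : gen k a b (⟨a - 1, by omega⟩, ⟨t - (a - 1), by omega⟩) ∈ cut k a b (stage a b (t + 1)) :=
      (gen_mem_cut k a b _).mpr (Or.inr (show t - (a - 1) < t + 1 - (a - 1) by omega))
    rcases (gen_mem_cut k a b _).mp (hle hmem) with h' | h'
    · change a - 1 < min t (a - 1) at h'; omega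
    · change t - (a - 1) < t - (a - 1) at h'; omega

theorem ringKrullDim_segre (a b : ℕ) :
    ringKrullDim (segre k (a + 1) (b + 1)).range = ((a + b + 1 : ℕ) : WithBot ℕ∞) := by
  let R := (segre k (a + 1) (b + 1)).range
  have : Algebra.FiniteType k R :=
    Algebra.FiniteType.of_surjective (segre k (a + 1) (b + 1)).rangeRestrict (AlgHom.rangeRestrict_surjective _)
  refine le_antisymm ?_ ?_
  · obtain ⟨s, hs, hs'⟩ := DimFormula.exists_trdeg_eq_ringKrullDim k R
    rw [hs']
    -- compare with the chart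
    let σ := Fin a ⊕ Option (Fin b)
    let θ : MvPolynomial (Fin (a + 1) ⊕ Fin (b + 1)) k →ₐ[k] MvPolynomial σ k :=
      aeval (Sum.elim (Fin.cases (X (Sum.inr none)) fun i => X (Sum.inr none) * X (Sum.inl i))
        (Fin.cases 1 fun j => X (Sum.inr (some j))))
    let L := FractionRing (MvPolynomial (Fin (a + 1) ⊕ Fin (b + 1)) k)
    let ι := IsScalarTower.toAlgHom k (MvPolynomial (Fin (a + 1) ⊕ Fin (b + 1)) k) L
    let φ : MvPolynomial σ k →ₐ[k] L :=
      aeval (Sum.elim (fun i => ι (X (Sum.inl i.succ)) / ι (X (Sum.inl 0)))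
        (fun o => o.elim (ι (X (Sum.inl 0)) * ι (X (Sum.inr 0)))
          fun j => ι (X (Sum.inr j.succ)) / ι (X (Sum.inr 0))))
    have hne : ∀ v, ι (X v) ≠ 0 := fun v h =>
      X_ne_zero v ((IsFractionRing.injective (MvPolynomial (Fin (a + 1) ⊕ Fin (b + 1)) k) L) (h.trans (map_zero _).symm))
    have hcomp : φ.comp (θ.comp (segre k (a + 1) (b + 1))) = ι.comp (segre k (a + 1) (b + 1)) := by
      refine algHom_ext fun p => ?_
      obtain ⟨i, j⟩ := p
      have hx := hne (Sum.inl 0)
      have hy := hne (Sum.inr 0)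
      refine Fin.cases ?_ (fun i => ?_) i <;> refine Fin.cases ?_ (fun j => ?_) j <;>
        simp [segre, θ, φ] <;> first | (rw [mul_assoc, mul_div_cancel₀ _ hy]; done) | (rw [mul_right_comm, mul_div_cancel₀ _ hx]; done) | (rw [show ∀ p q r w : L, p * q * (r / p) * (w / q) = (p * (r / p)) * (q * (w / q)) from fun p q r w => by ring, mul_div_cancel₀ _ hx, mul_div_cancel₀ _ hy]; done)
    have hinj : Function.Injective (θ.comp R.val) := by
      intro x y hxy
      obtain ⟨p, rfl⟩ := (segre k (a + 1) (b + 1)).rangeRestrict_surjective x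
      obtain ⟨q, rfl⟩ := (segre k (a + 1) (b + 1)).rangeRestrict_surjective y
      have hp := DFunLike.congr_fun hcomp p
      have hq := DFunLike.congr_fun hcomp q
      simp only [AlgHom.comp_apply] at hp hq
      refine Subtype.ext (IsFractionRing.injective (MvPolynomial (Fin (a + 1) ⊕ Fin (b + 1)) k) L ?_)
      exact hp.symm.trans ((congrArg φ hxy).trans hq)
    have h := trdeg_le_of_injective _ hinj
    rw [hs, MvPolynomial.trdeg_of_isDomain] at h
    simp [σ, Cardinal.mk_fintype] at h
    have h' : s ≤ a + (b + 1) := by exact_mod_cast h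
    exact_mod_cast (by omega : s ≤ a + b + 1)
  · let l : LTSeries (PrimeSpectrum R) :=
      ⟨a + 1 + (b + 1) - 1, fun t => ⟨cut k (a + 1) (b + 1) (stage (a + 1) (b + 1) t.1), inferInstance⟩,
        fun t => cut_lt k (a + 1) (b + 1) t.2 (by omega) (by omega)⟩
    have h : (l.length : WithBot ℕ∞) ≤ ringKrullDim R := Order.LTSeries.length_le_krullDim l
    rwa [show l.length = a + b + 1 by show a + 1 + (b + 1) - 1 = a + b + 1; omega] at h

end Groth.Agent.SegreDim
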